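import Groth.Prelude.Def_CycDet
import Mathlib.RingTheory.Length
import Mathlib.RingTheory.LocalRing.ResidueField.Basic
import Mathlib.LinearAlgebra.Quotient.Basic

/-! Admissible tuples: spans of prefixes, replacements and swaps. -/

set_option autoImplicit false
set_option linter.unusedSectionVars false
universe u v

open CycDet IsLocalRing

namespace Groth.Agent.L13.CycDet

variable {R : Type u} [CommRing R] [IsLocalRing R] {M : Type v} [AddCommGroup M] [Module R M]
  {l : ℕ}

/-- No entry lies in the span of the earlier ones. -/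
def Proper (e : Fin l → M) : Prop := ∀ a : Fin l, e a ∉ spanBefore R M e a

theorem mem_sb (e : Fin l → M) {j : Fin l} {k : ℕ} (h : (j : ℕ) < k) : e j ∈ spanBefore R M e k :=
  Submodule.subset_span ⟨j, h, rfl⟩

theorem sb_mono (e : Fin l → M) {k k' : ℕ} (h : k ≤ k') : spanBefore R M e k ≤ spanBefore R M e k' :=
  Submodule.span_mono (Set.image_mono fun _ hj => lt_of_lt_of_le hj h)

theorem sb_le_iff (e : Fin l → M) (k : ℕ) (N : Submodule R M) :
    spanBefore R M e k ≤ N ↔ ∀ j : Fin l, (j : ℕ) < k → e j ∈ N :=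
  ⟨fun h j hj => h (mem_sb e hj), fun h => Submodule.span_le.2 (by rintro _ ⟨j, hj, rfl⟩; exact h j hj)⟩

theorem sb_zero (e : Fin l → M) : spanBefore R M e 0 = ⊥ :=
  eq_bot_iff.2 ((sb_le_iff e 0 ⊥).2 fun _ hj => absurd hj (Nat.not_lt_zero _))

theorem sb_congr (e e' : Fin l → M) (k : ℕ) (h : ∀ j : Fin l, (j : ℕ) < k → e j = e' j) :
    spanBefore R M e k = spanBefore R M e' k :=
  le_antisymm ((sb_le_iff e k _).2 fun j hj => h j hj ▸ mem_sb e' hj)
    ((sb_le_iff e' k _).2 fun j hj => h j hj ▸ mem_sb e hj)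

theorem sb_succ (e : Fin l → M) (a : Fin l) :
    spanBefore R M e ((a : ℕ) + 1) = spanBefore R M e a ⊔ Submodule.span R {e a} := by
  refine le_antisymm ((sb_le_iff e _ _).2 fun j hj => ?_) (sup_le (sb_mono e (Nat.le_succ _)) ?_)
  · rcases Nat.lt_succ_iff_lt_or_eq.1 hj with h | h
    · exact Submodule.mem_sup_left (mem_sb e h)
    · exact Submodule.mem_sup_right (Fin.ext h ▸ Submodule.mem_span_singleton_self _)
  · rw [Submodule.span_singleton_le_iff_mem]
    exact mem_sb e (Nat.lt_succ_self _)

theorem sb_top (e : Fin l → M) : spanBefore R M e l = Submodule.span R (Set.range e) :=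
  le_antisymm ((sb_le_iff e l _).2 fun j _ => Submodule.subset_span ⟨j, rfl⟩)
    (Submodule.span_le.2 (by rintro _ ⟨j, rfl⟩; exact mem_sb e j.2))

theorem exists_coeff (e : Fin l → M) (a : Fin l) {z : M} (hz : z ∈ spanBefore R M e ((a : ℕ) + 1)) :
    ∃ c : R, z - c • e a ∈ spanBefore R M e a := by
  rw [sb_succ, Submodule.mem_sup] at hz
  obtain ⟨p, hp, q, hq, rfl⟩ := hz
  obtain ⟨c, rfl⟩ := Submodule.mem_span_singleton.1 hq
  exact ⟨c, by simpa using hp⟩

theorem isUnit_coeff {e : Fin l → M} (he : IsAdmissible R M e) {a : Fin l} {z : M} {c : R}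
    (hz : z ∉ spanBefore R M e a) (hc : z - c • e a ∈ spanBefore R M e a) : IsUnit c := by
  by_contra hu
  exact hz ((Submodule.sub_mem_iff_left _ (he a c hu)).1 hc)

theorem exists_unit_coeff {e : Fin l → M} (he : IsAdmissible R M e) {a : Fin l} {z : M}
    (hz : z ∉ spanBefore R M e a) (hz' : z ∈ spanBefore R M e ((a : ℕ) + 1)) : ∃ c : Rˣ, z - (c : R) • e a ∈ spanBefore R M e a := by
  obtain ⟨c, hc⟩ := exists_coeff e a hz'
  exact ⟨(isUnit_coeff he hz hc).unit, hc⟩

/-! ### Replacing one entry -/

section Update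

variable (e e' : Fin l → M) (a : Fin l) (c : Rˣ) (hj : ∀ j, j ≠ a → e j = e' j)
  (ha : e a - (c : R) • e' a ∈ spanBefore R M e a)
include hj ha

theorem sb_eq_of_replace (k : ℕ) : spanBefore R M e k = spanBefore R M e' k := by
  have hsa : spanBefore R M e a = spanBefore R M e' a := sb_congr e e' a fun j h => hj j fun hja => by simp [hja] at h
  apply le_antisymm
  · refine (sb_le_iff e k _).2 fun j h => ?_
    rcases eq_or_ne j a with rfl | hne
    · have h1 : e j - (c : R) • e' j ∈ spanBefore R M e' k := sb_mono e' h.le (hsa ▸ ha)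
      have h2 : (c : R) • e' j ∈ spanBefore R M e' k := Submodule.smul_mem _ _ (mem_sb e' h)
      simpa using add_mem h1 h2
    · exact hj j hne ▸ mem_sb e' h
  · refine (sb_le_iff e' k _).2 fun j h => ?_
    rcases eq_or_ne j a with rfl | hne
    · have h1 : (c : R) • e' j ∈ spanBefore R M e k := by
        have := sub_mem (mem_sb e h) (sb_mono e h.le ha)
        simpa using this
      have h2 := Submodule.smul_mem _ (↑c⁻¹ : R) h1
      rwa [smul_smul, Units.inv_mul, one_smul] at h2
    · exact (hj j hne).symm ▸ mem_sb e h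

theorem adm_of_replace (he : IsAdmissible R M e) : IsAdmissible R M e' := by
  intro j r hr
  rw [← sb_eq_of_replace e e' a c hj ha]
  rcases eq_or_ne j a with rfl | hne
  · have h1 : r • ((c : R) • e' j) ∈ spanBefore R M e j := by
      have := sub_mem (he j r hr) (Submodule.smul_mem _ r ha)
      rwa [smul_sub, sub_sub_cancel] at this
    have h2 := Submodule.smul_mem _ (↑c⁻¹ : R) h1
    rwa [smul_smul, smul_smul, mul_comm (↑c⁻¹ : R) r, mul_assoc, Units.inv_mul, mul_one] at h2
  · exact hj j hne ▸ he j r hr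

theorem proper_of_replace (he : Proper (R := R) e) : Proper (R := R) e' := by
  intro j hje
  rw [← sb_eq_of_replace e e' a c hj ha] at hje
  rcases eq_or_ne j a with rfl | hne
  · refine he j ?_
    simpa using add_mem ha (Submodule.smul_mem _ (c : R) hje)
  · exact he j (by rwa [hj j hne])

theorem replace_symm : ∀ (_ : ∀ j, j ≠ a → e' j = e j), e' a - ((c⁻¹ : Rˣ) : R) • e a ∈ spanBefore R M e' a := by
  intro _
  rw [← sb_eq_of_replace e e' a c hj ha]
  have := Submodule.smul_mem _ ((c⁻¹ : Rˣ) : R) ha
  rw [smul_sub, smul_smul, Units.inv_mul, one_smul] at this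
  simpa using neg_mem this

end Update

theorem proper_replace_iff (e e' : Fin l → M) (a : Fin l) (c : Rˣ) (hj : ∀ j, j ≠ a → e j = e' j)
    (ha : e a - (c : R) • e' a ∈ spanBefore R M e a) : Proper (R := R) e ↔ Proper (R := R) e' :=
  ⟨proper_of_replace e e' a c hj ha,
    proper_of_replace e' e a c⁻¹ (fun j h => (hj j h).symm)
      (replace_symm e e' a c hj ha fun j h => (hj j h).symm)⟩

/-! ### Swapping adjacent entries -/

section Swap

variable (e : Fin l → M) (a b : Fin l) (hab : (b : ℕ) + 1 = a)
include hab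

theorem sb_swap (k : ℕ) (hk : k ≠ a) : spanBefore R M (e ∘ Equiv.swap a b) k = spanBefore R M e k := by
  have key : ∀ f : Fin l → M, spanBefore R M (f ∘ Equiv.swap a b) k ≤ spanBefore R M f k := fun f => by
    refine (sb_le_iff _ k _).2 fun j h => mem_sb f ?_
    rcases eq_or_ne j a with rfl | hja
    · rw [Equiv.swap_apply_left]; omega
    rcases eq_or_ne j b with rfl | hjb
    · rw [Equiv.swap_apply_right]; omega
    · rwa [Equiv.swap_apply_of_ne_of_ne hja hjb]
  refine le_antisymm (key e) ?_
  have := key (e ∘ Equiv.swap a b)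
  rwa [Function.comp_assoc, ← Equiv.coe_trans, Equiv.swap_swap, Equiv.coe_refl,
    Function.comp_id] at this

theorem sb_swap_at : spanBefore R M (e ∘ Equiv.swap a b) a = spanBefore R M e b ⊔ Submodule.span R {e a} := by
  rw [← hab, sb_succ, sb_swap e a b hab b (by omega), Function.comp_apply, Equiv.swap_apply_right]

theorem adm_swap (he : IsAdmissible R M e) (hm : ∀ r ∈ maximalIdeal R, r • e a ∈ spanBefore R M e b) :
    IsAdmissible R M (e ∘ Equiv.swap a b) := by
  intro j r hr
  rw [Function.comp_apply]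
  rcases eq_or_ne j a with rfl | hja
  · rw [Equiv.swap_apply_left, sb_swap_at e j b hab]
    exact Submodule.mem_sup_left (he b r hr)
  rw [sb_swap e a b hab j fun h => hja (Fin.ext h)]
  rcases eq_or_ne j b with rfl | hjb
  · rw [Equiv.swap_apply_right]; exact hm r hr
  · rw [Equiv.swap_apply_of_ne_of_ne hja hjb]; exact he j r hr

theorem hm_swap (he : IsAdmissible R M e) (r : R) (hr : r ∈ maximalIdeal R) :
    r • (e ∘ Equiv.swap a b) a ∈ spanBefore R M (e ∘ Equiv.swap a b) b := by
  rw [sb_swap e a b hab b (by omega), Function.comp_apply, Equiv.swap_apply_left]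
  exact he b r hr

theorem proper_swap (hm : ∀ r ∈ maximalIdeal R, r • e a ∈ spanBefore R M e b) (hp : Proper (R := R) e) :
    Proper (R := R) (e ∘ Equiv.swap a b) := by
  intro j
  rw [Function.comp_apply]
  rcases eq_or_ne j a with rfl | hja
  · rw [Equiv.swap_apply_left, sb_swap_at e j b hab, Submodule.mem_sup]
    rintro ⟨p, hp', q, hq, hpq⟩
    obtain ⟨r, rfl⟩ := Submodule.mem_span_singleton.1 hq
    by_cases hu : IsUnit r
    · refine hp j ?_
      have h1 : r • e j ∈ spanBefore R M e j := by
        rw [show r • e j = e b - p by rw [← hpq]; abel]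
        exact sub_mem (mem_sb e (by omega)) (sb_mono e (by omega) hp')
      have h2 := Submodule.smul_mem _ (↑hu.unit⁻¹ : R) h1
      rwa [smul_smul, IsUnit.val_inv_mul, one_smul] at h2
    · exact hp b (hpq ▸ add_mem hp' (hm r hu))
  rw [sb_swap e a b hab j fun h => hja (Fin.ext h)]
  rcases eq_or_ne j b with rfl | hjb
  · rw [Equiv.swap_apply_right]
    exact fun h => hp a (sb_mono e (by omega) h)
  · rw [Equiv.swap_apply_of_ne_of_ne hja hjb]; exact hp j

theorem swap_swap_self : (e ∘ Equiv.swap a b) ∘ Equiv.swap a b = e := by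
  rw [Function.comp_assoc, ← Equiv.coe_trans, Equiv.swap_swap, Equiv.coe_refl, Function.comp_id]

theorem proper_swap_iff (he : IsAdmissible R M e) (hm : ∀ r ∈ maximalIdeal R, r • e a ∈ spanBefore R M e b) :
    Proper (R := R) e ↔ Proper (R := R) (e ∘ Equiv.swap a b) :=
  ⟨proper_swap e a b hab hm, fun h => by
    have := proper_swap (e ∘ Equiv.swap a b) a b hab (hm_swap e a b hab he) h
    rwa [swap_swap_self e a b hab] at this⟩

end Swap

/-! ### Lengths -/

theorem sb_covBy {e : Fin l → M} (he : IsAdmissible R M e) {a : Fin l} (ha : e a ∉ spanBefore R M e a) :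
    spanBefore R M e a ⋖ spanBefore R M e ((a : ℕ) + 1) := by
  refine ⟨lt_of_le_of_ne (sb_mono e (Nat.le_succ _)) fun h => ha (h ▸ mem_sb e (Nat.lt_succ_self _)),
    fun X hX hX' => ?_⟩
  obtain ⟨z, hzX, hz⟩ := SetLike.exists_of_lt hX
  obtain ⟨c, hc⟩ := exists_unit_coeff he hz (hX'.le hzX)
  refine hX'.not_ge ?_
  rw [sb_succ, sup_le_iff, Submodule.span_singleton_le_iff_mem]
  refine ⟨hX.le, ?_⟩
  have h1 : (c : R) • e a ∈ X := by simpa using sub_mem hzX (hX.le hc)
  have h2 := Submodule.smul_mem _ (↑c⁻¹ : R) h1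
  rwa [smul_smul, Units.inv_mul, one_smul] at h2

set_option maxHeartbeats 1000000 in
theorem exists_series {e : Fin l → M} (he : IsAdmissible R M e) :
    ∀ k, k ≤ l → ∃ s : CompositionSeries (Submodule R M), s.head = ⊥ ∧ s.last = spanBefore R M e k ∧
      s.length ≤ k ∧ ((∀ a : Fin l, (a : ℕ) < k → e a ∉ spanBefore R M e a) → s.length = k) ∧
      ((∃ a : Fin l, (a : ℕ) < k ∧ e a ∈ spanBefore R M e a) → s.length < k) := by
  intro k
  induction k with
  | zero =>
    intro _
    exact ⟨RelSeries.singleton _ ⊥, rfl, (sb_zero e).symm, le_rfl, fun _ => rfl,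
      fun ⟨a, ha, _⟩ => absurd ha (Nat.not_lt_zero _)⟩
  | succ k ih =>
    intro hk
    obtain ⟨s, hs0, hs1, hs2, hs3, hs4⟩ := ih (Nat.le_of_succ_le hk)
    let a : Fin l := ⟨k, hk⟩
    by_cases ha : e a ∈ spanBefore R M e a
    · refine ⟨s, hs0, ?_, Nat.le_succ_of_le hs2, fun h => absurd ha (h a (Nat.lt_succ_self k)),
        fun _ => Nat.lt_succ_of_le hs2⟩
      rw [hs1, show k = (a : ℕ) from rfl, sb_succ, sup_eq_left.2
        ((Submodule.span_singleton_le_iff_mem _ _).2 ha)]
    · have hrel : s.last ⋖ spanBefore R M e (k + 1) := by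
        have h := sb_covBy (e := e) (a := a) he ha
        have ek : (a : ℕ) = k := rfl
        rw [ek] at h
        rw [hs1]
        exact h
      let X : Submodule R M := spanBefore R M e (k + 1)
      let s' : CompositionSeries (Submodule R M) := s.snoc X hrel
      have h0 : s'.head = ⊥ := (RelSeries.head_snoc s X hrel).trans hs0
      have h1 : s'.last = X := RelSeries.last_snoc s X hrel
      have hlen : s'.length = s.length + 1 := rfl
      refine ⟨s', h0, h1, ?_, ?_, ?_⟩
      · omega
      · intro h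
        have := hs3 fun b hb => h b (Nat.lt_succ_of_lt hb)
        omega
      · rintro ⟨b, hb, hb'⟩
        rcases Nat.lt_succ_iff_lt_or_eq.1 hb with h | h
        · have := hs4 ⟨b, h, hb'⟩
          omega
        · exact absurd ((Fin.ext h : b = a) ▸ hb') ha

theorem proper_of_span_eq_top {e : Fin l → M} (he : IsAdmissible R M e)
    (hl : Module.length R M = l) (htop : Submodule.span R (Set.range e) = ⊤) :
    Proper (R := R) e := by
  intro a ha
  obtain ⟨s, hs0, hs1, -, -, hs4⟩ := exists_series he l le_rfl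
  have h1 := Module.length_compositionSeries s hs0 (hs1.trans ((sb_top e).trans htop))
  rw [hl] at h1
  have h2 := hs4 ⟨a, a.2, ha⟩
  exact h2.ne (ENat.natCast_inj.1 h1)

theorem span_eq_top_of_proper [IsNoetherian R M] [IsArtinian R M] {e : Fin l → M}
    (he : IsAdmissible R M e) (hp : Proper (R := R) e) (hl : Module.length R M = l) :
    Submodule.span R (Set.range e) = ⊤ := by
  by_contra hne
  obtain ⟨s, hs0, hs1, -, hs3, -⟩ := exists_series he l le_rfl
  have h1 := hs3 fun a _ => hp a
  have h2 := Submodule.length_lt (N := spanBefore R M e l) (by rwa [sb_top])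
  rw [Module.length_submodule, hl] at h2
  have hlast : s.last = spanBefore R M e l := hs1
  let t : LTSeries (Submodule R M) := s.map ⟨id, fun h => h.1⟩
  have h3 : (t.length : ℕ∞) ≤ Order.height t.last := Order.length_le_height_last
  have h4 : t.last = spanBefore R M e l := hs1
  have h5 : t.length = l := h1
  rw [h4, h5] at h3
  exact (h3.trans_lt h2).ne rfl

/-- Every finite length module has a full admissible tuple. -/
theorem exists_proper [IsNoetherian R M] [IsArtinian R M] {n : ℕ} (hn : Module.length R M = n) :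
    ∀ k, k ≤ n → ∃ e : Fin k → M, IsAdmissible R M e ∧ Proper (R := R) e := by
  intro k
  induction k with
  | zero => exact fun _ => ⟨Fin.elim0, fun a => a.elim0, fun a => a.elim0⟩
  | succ k ih =>
    intro hk
    obtain ⟨e, he, hp⟩ := ih (Nat.le_of_succ_le hk)
    have hne : spanBefore R M e k ≠ ⊤ := by
      intro htop
      obtain ⟨s, hs0, hs1, -, hs3, -⟩ := exists_series he k le_rfl
      have h1 := Module.length_compositionSeries s hs0 (hs1.trans htop)
      rw [hn, hs3 fun a _ => hp a] at h1
      have := ENat.natCast_inj.1 h1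
      omega
    obtain ⟨X, hX, hmin⟩ := wellFounded_lt.has_min {X : Submodule R M | spanBefore R M e k < X}
      ⟨⊤, lt_top_iff_ne_top.2 hne⟩
    replace hX : spanBefore R M e k < X := hX
    obtain ⟨z, hzX, hz⟩ := SetLike.exists_of_lt hX
    have hm : ∀ r ∈ maximalIdeal R, r • z ∈ spanBefore R M e k := by
      intro r hr
      by_contra hrz
      have hle : spanBefore R M e k ⊔ Submodule.span R {r • z} ≤ X :=
        sup_le hX.le ((Submodule.span_singleton_le_iff_mem _ _).2 (X.smul_mem r hzX))
      have heq : spanBefore R M e k ⊔ Submodule.span R {r • z} = X := by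
        by_contra hne'
        refine hmin _ ?_ (lt_of_le_of_ne hle hne')
        show spanBefore R M e k < spanBefore R M e k ⊔ Submodule.span R {r • z}
        refine lt_of_le_of_ne le_sup_left fun h => hrz ?_
        rw [h]
        exact Submodule.mem_sup_right (Submodule.mem_span_singleton_self (r • z))
      rw [← heq, Submodule.mem_sup] at hzX
      obtain ⟨p, hp', q, hq, hpq⟩ := hzX
      obtain ⟨s, rfl⟩ := Submodule.mem_span_singleton.1 hq
      have h1 : (1 - s * r) • z ∈ spanBefore R M e k := by
        rw [sub_smul, one_smul, mul_smul]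
        rwa [sub_eq_iff_eq_add.2 hpq.symm]
      have hu : IsUnit (1 - s * r) :=
        IsLocalRing.isUnit_one_sub_self_of_mem_nonunits _ (Ideal.mul_mem_left _ s hr)
      have h2 := Submodule.smul_mem _ (↑hu.unit⁻¹ : R) h1
      rw [smul_smul, IsUnit.val_inv_mul, one_smul] at h2
      exact hz h2
    refine ⟨Fin.snoc e z, ?_⟩
    have hsb : ∀ i, i ≤ k → spanBefore R M (Fin.snoc e z : Fin (k + 1) → M) i = spanBefore R M e i := by
      intro i hi
      apply le_antisymm
      · refine (sb_le_iff _ i _).2 fun j hj => ?_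
        obtain ⟨j', rfl⟩ := Fin.exists_castSucc_eq.2 (fun h => by
          rw [h, Fin.val_last] at hj; omega : j ≠ Fin.last k)
        rw [Fin.snoc_castSucc]
        exact mem_sb e hj
      · refine (sb_le_iff _ i _).2 fun j hj => ?_
        rw [← Fin.snoc_castSucc (α := fun _ => M) z e j]
        exact mem_sb _ hj
    refine ⟨fun a r hr => ?_, fun a => ?_⟩
    · induction a using Fin.lastCases with
      | last => rw [Fin.snoc_last, Fin.val_last, hsb k le_rfl]; exact hm r hr
      | cast a => rw [Fin.snoc_castSucc, Fin.val_castSucc, hsb a a.2.le]; exact he a r hr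
    · induction a using Fin.lastCases with
      | last => rw [Fin.snoc_last, Fin.val_last, hsb k le_rfl]; exact hz
      | cast a => rw [Fin.snoc_castSucc, Fin.val_castSucc, hsb a a.2.le]; exact hp a

end Groth.Agent.L13.CycDet
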