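/-
Lengths between submodules and orders along a one-dimensional quotient `R/q`.
-/
import Groth.Prelude.Def_Tame
import Mathlib.RingTheory.OrderOfVanishing.Basic
import Mathlib.RingTheory.LocalRing.ResidueField.Ideal
import Mathlib.RingTheory.Ideal.Quotient.Operations
import Mathlib.LinearAlgebra.Isomorphisms
import Mathlib.RingTheory.Noetherian.Basic

set_option autoImplicit false

universe u v

open IsLocalRing

namespace Groth.Agent.L13.CycDet.Lattice

section Len

variable {R : Type u} [CommRing R] {N : Type v} [AddCommGroup N] [Module R N]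

/-- The length of `C/A`. -/
noncomputable def len (A C : Submodule R N) : ℕ∞ := Module.length R (↥C ⧸ A.submoduleOf C)

theorem len_self (A : Submodule R N) : len A A = 0 := by
  haveI : Subsingleton (↥A ⧸ A.submoduleOf A) :=
    Submodule.Quotient.subsingleton_iff.2 (by ext x; exact ⟨fun _ => trivial, fun _ => x.2⟩)
  exact Module.length_eq_zero

theorem len_add {A B C : Submodule R N} (hAB : A ≤ B) (hBC : B ≤ C) :
    len A C = len A B + len B C := by
  let f : (↥B ⧸ A.submoduleOf B) →ₗ[R] (↥C ⧸ A.submoduleOf C) :=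
    Submodule.mapQ _ _ (Submodule.inclusion hBC) fun x hx => hx
  let g : (↥C ⧸ A.submoduleOf C) →ₗ[R] (↥C ⧸ B.submoduleOf C) :=
    Submodule.factor fun x hx => hAB hx
  have hf : Function.Injective f := by
    rw [← LinearMap.ker_eq_bot, LinearMap.ker_eq_bot']
    intro z hz
    obtain ⟨z, rfl⟩ := Submodule.Quotient.mk_surjective _ z
    exact (Submodule.Quotient.mk_eq_zero _).2 ((Submodule.Quotient.mk_eq_zero _).1 hz :)
  have hfg : Function.Exact f g := by
    intro z
    obtain ⟨z, rfl⟩ := Submodule.Quotient.mk_surjective _ z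
    refine ⟨fun h => ⟨Submodule.Quotient.mk ⟨z, ((Submodule.Quotient.mk_eq_zero _).1 h :)⟩, rfl⟩, ?_⟩
    rintro ⟨y, hy⟩
    obtain ⟨y, rfl⟩ := Submodule.Quotient.mk_surjective _ y
    rw [← hy]
    exact (Submodule.Quotient.mk_eq_zero _).2 y.2
  exact Module.length_eq_add_of_exact f g hf (Submodule.factor_surjective _) hfg

theorem len_sup (X B : Submodule R N) : len X (X ⊔ B) = len (X ⊓ B) B := by
  unfold len
  rw [sup_comm X B]
  refine (LinearEquiv.length_eq ?_).symm
  refine (Submodule.quotEquivOfEq _ _ ?_).trans (LinearMap.quotientInfEquivSupQuotient B X)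
  ext x
  exact ⟨fun h => ⟨x.2, h.1⟩, fun h => ⟨h.2, h.1⟩⟩

theorem len_step {A B C : Submodule R N} (hAB : A ≤ B) (hBC : B ≤ C) {z : N} (hz : z ∈ C)
    (hzA : ∀ r : R, r • z ∈ B → r • z ∈ A) :
    len (A ⊔ Submodule.span R {z}) C = len A B + len (B ⊔ Submodule.span R {z}) C := by
  rw [len_add (sup_le_sup_right hAB _) (sup_le hBC ((Submodule.span_singleton_le_iff_mem _ _).2 hz))]
  congr 1
  have h : (A ⊔ Submodule.span R {z}) ⊓ B = A := by
    refine le_antisymm ?_ (le_inf le_sup_left hAB)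
    rintro x ⟨hx, hxB⟩
    obtain ⟨a, ha, w, hw, rfl⟩ := Submodule.mem_sup.1 hx
    obtain ⟨r, rfl⟩ := Submodule.mem_span_singleton.1 hw
    exact A.add_mem ha (hzA r ((B.add_mem_iff_right (hAB ha)).1 hxB))
  rw [show B ⊔ Submodule.span R {z} = (A ⊔ Submodule.span R {z}) ⊔ B by
    rw [sup_right_comm, sup_eq_right.2 hAB], len_sup, h]

end Len

section Ord

variable {R : Type u} [CommRing R] [IsNoetherianRing R] (q : Ideal R) [q.IsPrime]
  [Ring.KrullDimLE 1 (R ⧸ q)]

/-- The order of the image of `r` in `R/q`. -/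
noncomputable def oR (r : R) : ℤ := ((Ring.ord (R ⧸ q) (Ideal.Quotient.mk q r)).toNat : ℤ)

variable {q}

theorem mk_mem_nzd {r : R} (hr : r ∉ q) : Ideal.Quotient.mk q r ∈ nonZeroDivisors (R ⧸ q) :=
  mem_nonZeroDivisors_of_ne_zero fun h => hr (Ideal.Quotient.eq_zero_iff_mem.1 h)

theorem ord_ne_top {r : R} (hr : r ∉ q) : Ring.ord (R ⧸ q) (Ideal.Quotient.mk q r) ≠ ⊤ :=
  Ring.ord_ne_top (mk_mem_nzd hr)

theorem oR_mul {a b : R} (ha : a ∉ q) (hb : b ∉ q) : oR q (a * b) = oR q a + oR q b := by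
  unfold oR
  rw [map_mul, Ring.ord_mul _ (mk_mem_nzd hb), ENat.toNat_add (ord_ne_top ha) (ord_ne_top hb)]
  push_cast
  ring

theorem oR_one : oR q (1 : R) = 0 := by
  have h := oR_mul (q := q) (a := 1) (b := 1) (fun h => (‹q.IsPrime›).ne_top ((q.eq_top_iff_one).2 h))
    (fun h => (‹q.IsPrime›).ne_top ((q.eq_top_iff_one).2 h))
  rw [mul_one] at h
  linarith

theorem length_quot_sup (r : R) :
    Module.length R (R ⧸ (q ⊔ Ideal.span {r})) = Ring.ord (R ⧸ q) (Ideal.Quotient.mk q r) := by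
  unfold Ring.ord
  rw [← Module.length_eq_of_surjective (S := R) (R := R ⧸ q) Ideal.Quotient.mk_surjective]
  refine (LinearEquiv.length_eq ?_).symm
  exact (Ideal.quotientEquivAlgOfEq R (by rw [Ideal.map_span, Set.image_singleton]; rfl)).toLinearEquiv.trans
    (DoubleQuot.quotQuotEquivQuotSupₐ R q (Ideal.span {r})).toLinearEquiv

variable {N : Type v} [AddCommGroup N] [Module R N]

theorem len_scale {A : Submodule R N} {z : N} (hqz : ∀ a ∈ q, a • z ∈ A)
    (hz : ∀ a : R, a • z ∈ A → a ∈ q) (r : R) :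
    len (A ⊔ Submodule.span R {r • z}) (A ⊔ Submodule.span R {z}) =
      Ring.ord (R ⧸ q) (Ideal.Quotient.mk q r) := by
  rw [← length_quot_sup]
  unfold len
  set C := A ⊔ Submodule.span R {z} with hC
  have hzC : z ∈ C := Submodule.mem_sup_right (Submodule.mem_span_singleton_self z)
  set D := (A ⊔ Submodule.span R {r • z}).submoduleOf C
  let f : R →ₗ[R] ↥C ⧸ D := D.mkQ.comp (LinearMap.toSpanSingleton R ↥C ⟨z, hzC⟩)
  have hsurj : Function.Surjective f := by
    intro w
    obtain ⟨⟨w, hw⟩, rfl⟩ := Submodule.Quotient.mk_surjective _ w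
    obtain ⟨a, ha, b, hb, hab⟩ := Submodule.mem_sup.1 hw
    obtain ⟨s, rfl⟩ := Submodule.mem_span_singleton.1 hb
    refine ⟨s, (Submodule.Quotient.eq _).2 ?_⟩
    show (s • z - w : N) ∈ A ⊔ Submodule.span R {r • z}
    rw [← hab, sub_add_cancel_right]
    exact Submodule.mem_sup_left (A.neg_mem ha)
  have hker : LinearMap.ker f = q ⊔ Ideal.span {r} := by
    ext a
    constructor
    · intro ha
      have h : a • z ∈ A ⊔ Submodule.span R {r • z} := ((Submodule.Quotient.mk_eq_zero D).1 ha :)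
      obtain ⟨x, hx, w, hw, hxw⟩ := Submodule.mem_sup.1 h
      obtain ⟨b, rfl⟩ := Submodule.mem_span_singleton.1 hw
      have h1 : (a - b * r) • z ∈ A := by
        rw [sub_smul, mul_smul, ← hxw, add_sub_cancel_right]
        exact hx
      exact Submodule.mem_sup.2 ⟨a - b * r, hz _ h1, b * r, Ideal.mem_span_singleton'.2 ⟨b, rfl⟩, sub_add_cancel _ _⟩
    · intro ha
      obtain ⟨x, hx, y, hy, rfl⟩ := Submodule.mem_sup.1 ha
      obtain ⟨b, rfl⟩ := Ideal.mem_span_singleton'.1 hy
      refine (Submodule.Quotient.mk_eq_zero _).2 ?_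
      show (x + b * r) • z ∈ A ⊔ Submodule.span R {r • z}
      rw [add_smul, mul_smul]
      exact Submodule.add_mem _ (Submodule.mem_sup_left (hqz x hx))
        (Submodule.mem_sup_right (Submodule.smul_mem _ b (Submodule.mem_span_singleton_self _)))
  exact ((f.quotKerEquivOfSurjective hsurj).symm.trans (Submodule.quotEquivOfEq _ _ hker)).length_eq

theorem len_ne_top [IsNoetherian R N] {A C : Submodule R N} (hAC : A ≤ C)
    (hq : ∀ c ∈ C, ∀ a ∈ q, a • c ∈ A) (ht : ∀ c ∈ C, ∃ t ∉ q, t • c ∈ A) : len A C ≠ ⊤ := by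
  classical
  obtain ⟨s, rfl⟩ := IsNoetherian.noetherian C
  rw [← sup_eq_right.2 hAC]
  suffices h : ∀ T : Finset N, (∀ c ∈ T, c ∈ Submodule.span R (s : Set N)) →
      len A (A ⊔ Submodule.span R (T : Set N)) ≠ ⊤ from h s fun c hc => Submodule.subset_span hc
  intro T
  induction T using Finset.induction with
  | empty =>
    intro _
    rw [Finset.coe_empty, Submodule.span_empty, sup_bot_eq, len_self]
    exact ENat.zero_ne_top
  | insert c T hc ih =>
    intro hT
    set B := A ⊔ Submodule.span R (T : Set N) with hB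
    have hBc : A ⊔ Submodule.span R ((insert c T : Finset N) : Set N) = B ⊔ Submodule.span R {c} := by
      rw [Finset.coe_insert, Submodule.span_insert, hB, sup_comm (Submodule.span R {c}), sup_assoc]
    rw [hBc, len_add le_sup_left le_sup_left]
    refine WithTop.add_ne_top.2 ⟨ih fun x hx => hT x (Finset.mem_insert_of_mem hx), ?_⟩
    obtain ⟨t, htq, htc⟩ := ht c (hT c (Finset.mem_insert_self c T))
    have hle : len B (B ⊔ Submodule.span R {c}) ≤ Module.length R (R ⧸ (q ⊔ Ideal.span {t})) := by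
      set C' := B ⊔ Submodule.span R {c}
      have hcC : c ∈ C' := Submodule.mem_sup_right (Submodule.mem_span_singleton_self c)
      let f : (R ⧸ (q ⊔ Ideal.span {t})) →ₗ[R] ↥C' ⧸ B.submoduleOf C' :=
        Submodule.liftQ _ ((B.submoduleOf C').mkQ.comp (LinearMap.toSpanSingleton R ↥C' ⟨c, hcC⟩)) fun a ha => by
          obtain ⟨x, hx, y, hy, rfl⟩ := Submodule.mem_sup.1 ha
          obtain ⟨b, rfl⟩ := Ideal.mem_span_singleton'.1 hy
          refine (Submodule.Quotient.mk_eq_zero _).2 ?_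
          show (x + b * t) • c ∈ B
          rw [add_smul, mul_smul]
          exact Submodule.mem_sup_left (A.add_mem (hq c (hT c (Finset.mem_insert_self c T)) x hx) (A.smul_mem b htc))
      refine Module.length_le_of_surjective f fun w => ?_
      obtain ⟨⟨w, hw⟩, rfl⟩ := Submodule.Quotient.mk_surjective _ w
      obtain ⟨a, ha, b, hb, hab⟩ := Submodule.mem_sup.1 hw
      obtain ⟨r, rfl⟩ := Submodule.mem_span_singleton.1 hb
      refine ⟨Submodule.Quotient.mk r, (Submodule.Quotient.eq _).2 ?_⟩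
      show (r • c - w : N) ∈ B
      rw [← hab, sub_add_cancel_right]
      exact B.neg_mem ha
    rw [length_quot_sup] at hle
    exact ne_top_of_le_ne_top (ord_ne_top htq) hle

variable (q)

/-- The order of an element of `κ(q)`. -/
noncomputable def oF (f : q.ResidueField) : ℤ := CycAlg.ordFrac (R ⧸ q) q.ResidueField f

variable {q}

theorem oF_algebraMap {r : R} (hr : r ∉ q) : oF q (algebraMap R q.ResidueField r) = oR q r := by
  unfold oF oR CycAlg.ordFrac
  rw [dif_pos ⟨inferInstance, inferInstance, inferInstance, inferInstance⟩,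
    show algebraMap R q.ResidueField r = algebraMap (R ⧸ q) q.ResidueField (Ideal.Quotient.mk q r) from
      IsScalarTower.algebraMap_apply R (R ⧸ q) q.ResidueField r,
    Ring.ordFrac_eq_ord (R ⧸ q) (fun h => hr (Ideal.Quotient.eq_zero_iff_mem.1 h)),
    Ring.ordMonoidWithZeroHom_eq_coe (R ⧸ q) (mk_mem_nzd hr) (ENat.natCast_toNat (ord_ne_top hr)).symm]
  rfl

theorem oF_mul {a b : q.ResidueField} (ha : a ≠ 0) (hb : b ≠ 0) : oF q (a * b) = oF q a + oF q b := by
  unfold oF CycAlg.ordFrac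
  have h : IsNoetherianRing (R ⧸ q) ∧ Ring.KrullDimLE 1 (R ⧸ q) ∧ Nontrivial (R ⧸ q) ∧
      IsFractionRing (R ⧸ q) q.ResidueField := ⟨inferInstance, inferInstance, inferInstance, inferInstance⟩
  rw [dif_pos h, dif_pos h, dif_pos h, map_mul]
  obtain ⟨x, hx⟩ := WithZero.ne_zero_iff_exists.1 ((map_ne_zero (Ring.ordFrac (R ⧸ q) : q.ResidueField →*₀ _)).2 ha :
    Ring.ordFrac (R ⧸ q) a ≠ 0)
  obtain ⟨y, hy⟩ := WithZero.ne_zero_iff_exists.1 ((map_ne_zero (Ring.ordFrac (R ⧸ q) : q.ResidueField →*₀ _)).2 hb :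
    Ring.ordFrac (R ⧸ q) b ≠ 0)
  rw [← hx, ← hy]
  rfl

theorem oF_one : oF q (1 : q.ResidueField) = 0 := by
  have h := oF_mul (q := q) (a := (1 : q.ResidueField)) (b := 1) one_ne_zero one_ne_zero
  rw [mul_one] at h
  linarith

theorem oF_neg_one : oF q (-1 : q.ResidueField) = 0 := by
  have h := oF_mul (q := q) (a := (-1 : q.ResidueField)) (b := -1) (neg_ne_zero.2 one_ne_zero)
    (neg_ne_zero.2 one_ne_zero)
  rw [neg_one_mul, neg_neg, oF_one] at h
  linarith

end Ord

end Groth.Agent.L13.CycDet.Lattice
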