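import Groth.Agent.L13.CycDet.Functional
import Mathlib.LinearAlgebra.Dimension.Finite

/-! The space of symbols of a finite length module is a line. -/

set_option autoImplicit false
universe u v

open CycDet IsLocalRing

namespace Groth.Agent.L13.CycDet

variable {R : Type u} [CommRing R] [IsLocalRing R] {M : Type v} [AddCommGroup M] [Module R M]

theorem cls_ne_zero (hM : IsFiniteLength R M) (e : Adm R M (Module.length R M).toNat)
    (he : Proper (R := R) e.1) : cls e ≠ 0 := by
  obtain ⟨D, hD, hD0⟩ := exists_functional (R := R) _ M (hfull_of_isFiniteLength hM)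
  obtain ⟨Φ, hΦ⟩ := exists_lift hD
  intro h
  exact hD0 e he (by rw [← hΦ, h, map_zero])

theorem proper_of_span (hM : IsFiniteLength R M) (e : Adm R M (Module.length R M).toNat)
    (he : Submodule.span R (Set.range e.1) = ⊤) : Proper (R := R) e.1 := by
  obtain ⟨_, _⟩ := isFiniteLength_iff_isNoetherian_isArtinian.1 hM
  exact proper_of_span_eq_top e.2 (ENat.natCast_toNat Module.length_ne_top).symm he

theorem cls_ne_zero_iff (hM : IsFiniteLength R M) (e : Adm R M (Module.length R M).toNat) :
    cls e ≠ 0 ↔ Proper (R := R) e.1 :=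
  ⟨fun h => not_not.1 fun hn => h (respects_cls.degen e hn), cls_ne_zero hM e⟩

theorem exists_proper_adm (hM : IsFiniteLength R M) :
    ∃ e : Adm R M (Module.length R M).toNat, Proper (R := R) e.1 := by
  obtain ⟨_, _⟩ := isFiniteLength_iff_isNoetherian_isArtinian.1 hM
  obtain ⟨e, he, hp⟩ := exists_proper (R := R) (M := M)
    (ENat.natCast_toNat Module.length_ne_top).symm _ le_rfl
  exact ⟨⟨e, he⟩, hp⟩

theorem finrank_det (hM : IsFiniteLength R M) :
    Module.finrank (ResidueField R) (Det R M) = 1 := by
  obtain ⟨e, he⟩ := exists_proper_adm hM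
  apply Module.finrank_eq_of_rank_eq
  rw [Nat.cast_one]
  refine le_antisymm (rank_le_one (hfull_of_isFiniteLength hM)) ?_
  rw [Cardinal.one_le_iff_ne_zero, Ne, rank_zero_iff, not_subsingleton_iff_nontrivial]
  exact ⟨⟨cls e, 0, cls_ne_zero hM e he⟩⟩

end Groth.Agent.L13.CycDet
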