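/-
The index of an admissible tuple of a localised module and its behaviour under the admissible moves.
-/
import Groth.Agent.L13.CycDet.Lattice
import Groth.Agent.L13.CycDet.Main
import Mathlib.Algebra.Module.LocalizedModule.Basic
import Mathlib.RingTheory.Localization.AtPrime.Basic
import Mathlib.Algebra.BigOperators.Fin

set_option autoImplicit false
set_option linter.unusedSectionVars false

universe u

open CycDet IsLocalRing Groth.Agent.L13.CycDet Groth.Agent.L13.CycDet.Lattice

namespace Groth.Agent.L13.CycDet.Coker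

variable {R : Type u} [CommRing R] [IsNoetherianRing R] {q : Ideal R} [q.IsPrime]
  [Ring.KrullDimLE 1 (R ⧸ q)] {N : Type u} [AddCommGroup N] [Module R N] [Module.Finite R N]

variable (q N) in
/-- Localisation. -/
noncomputable abbrev ι : N →ₗ[R] LocalizedModule q.primeCompl N :=
  LocalizedModule.mkLinearMap q.primeCompl N

local notation "L" => Localization.AtPrime q
local notation "NL" => LocalizedModule q.primeCompl N

/-- The saturation in `N` of a subspace of the localisation. -/
noncomputable def sat (P : Submodule L NL) : Submodule R N := (P.restrictScalars R).comap (ι q N)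

theorem mem_sat {P : Submodule L NL} {n : N} : n ∈ sat P ↔ ι q N n ∈ P := Iff.rfl

theorem sat_mono {P P' : Submodule L NL} (h : P ≤ P') : sat P ≤ sat P' := fun _ hn => h hn

theorem isUnit_algebraMap {r : R} (hr : r ∉ q) : IsUnit (algebraMap R L r) :=
  IsLocalization.map_units _ (⟨r, hr⟩ : q.primeCompl)

theorem smul_mem_iff {P : Submodule L NL} {r : R} (hr : r ∉ q) {v : NL} : r • v ∈ P ↔ v ∈ P := by
  refine ⟨fun h => ?_, fun h => ?_⟩
  · rw [← algebraMap_smul L r v] at h
    have h2 := P.smul_mem (↑(isUnit_algebraMap hr).unit⁻¹ : L) h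
    rwa [smul_smul, IsUnit.val_inv_mul, one_smul] at h2
  · rw [← algebraMap_smul L r v]
    exact P.smul_mem _ h

theorem algebraMap_mem_max {r : R} (hr : r ∈ q) : algebraMap R L r ∈ maximalIdeal L :=
  (IsLocalization.AtPrime.to_map_mem_maximal_iff L q r).2 hr

theorem exists_scale (v : NL) : ∃ (z : N) (s : R), s ∉ q ∧ ι q N z = s • v := by
  obtain ⟨⟨z, s⟩, h⟩ := IsLocalizedModule.surj q.primeCompl (ι q N) v
  exact ⟨z, s.1, s.2, h.symm⟩

theorem exists_smul_mem_span {S : Set N} {v : NL} (hv : v ∈ Submodule.span L (ι q N '' S)) :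
    ∃ (n : N) (h : R), h ∉ q ∧ n ∈ Submodule.span R S ∧ h • v = ι q N n := by
  induction hv using Submodule.span_induction with
  | mem x hx =>
    obtain ⟨n, hn, rfl⟩ := hx
    exact ⟨n, 1, fun h => (‹q.IsPrime›).ne_top ((q.eq_top_iff_one).2 h), Submodule.subset_span hn, one_smul _ _⟩
  | zero => exact ⟨0, 1, fun h => (‹q.IsPrime›).ne_top ((q.eq_top_iff_one).2 h), zero_mem _, by simp⟩
  | add x y _ _ hx hy =>
    obtain ⟨n, h, hh, hn, hx⟩ := hx
    obtain ⟨m, k, hk, hm, hy⟩ := hy
    refine ⟨k • n + h • m, h * k, fun hmem => ((‹q.IsPrime›).mem_or_mem hmem).elim hh hk,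
      add_mem (Submodule.smul_mem _ k hn) (Submodule.smul_mem _ h hm), ?_⟩
    rw [map_add, map_smul, map_smul, ← hx, ← hy, smul_add, smul_smul, smul_smul, mul_comm k h]
  | smul c x _ hx =>
    obtain ⟨n, h, hh, hn, hx⟩ := hx
    obtain ⟨r, t, rfl⟩ := IsLocalization.exists_mk'_eq q.primeCompl c
    refine ⟨r • n, (t : R) * h, fun hmem => ((‹q.IsPrime›).mem_or_mem hmem).elim t.2 hh,
      Submodule.smul_mem _ r hn, ?_⟩
    rw [map_smul, ← hx, ← algebraMap_smul L ((t : R) * h), smul_smul,
      ← algebraMap_smul L h x, ← algebraMap_smul L r ((algebraMap R L h) • x), smul_smul, map_mul,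
      mul_comm (algebraMap R L (t : R)) (algebraMap R L h), mul_assoc,
      mul_comm (algebraMap R L (t : R)) (IsLocalization.mk' L r t), IsLocalization.mk'_spec, mul_comm]

variable {l : ℕ}

/-- `(z, s)` represents the entry `a` of the tuple `e`. -/
def Rep (e : Fin l → NL) (a : Fin l) (z : N) (s : R) : Prop :=
  s ∉ q ∧ ι q N z - s • e a ∈ spanBefore L NL e a

theorem exists_rep (e : Fin l → NL) (a : Fin l) : ∃ (z : N) (s : R), Rep e a z s := by
  obtain ⟨z, s, hs, h⟩ := exists_scale (e a)
  exact ⟨z, s, hs, by rw [h, sub_self]; exact zero_mem _⟩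

/-- The contribution of a representative. -/
noncomputable def val (e : Fin l → NL) (a : Fin l) (z : N) (s : R) : ℤ :=
  ((len (sat (spanBefore L NL e a) ⊔ Submodule.span R {z}) (sat (spanBefore L NL e ((a : ℕ) + 1)))).toNat : ℤ)
    - oR q s

section Rep

theorem Rep.mem {e : Fin l → NL} {a : Fin l} {z : N} {s : R} (h : Rep e a z s) : z ∈ sat (spanBefore L NL e ((a : ℕ) + 1)) := by
  rw [mem_sat, ← sub_add_cancel (ι q N z) (s • e a)]
  refine add_mem (sb_mono e (Nat.le_succ _) h.2) ?_
  rw [← algebraMap_smul L s (e a)]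
  exact Submodule.smul_mem _ _ (mem_sb e (Nat.lt_succ_self _))

theorem Rep.eq_zero_of_mem {e : Fin l → NL} {a : Fin l} {z : N} {s : R} (h : Rep e a z s) (hp : Proper (R := L) e) {r : R}
    (hr : r • z ∈ sat (spanBefore L NL e a)) : r ∈ q := by
  by_contra hrq
  rw [mem_sat, map_smul, smul_mem_iff hrq] at hr
  have h1 := sub_mem hr h.2
  rw [sub_sub_cancel, smul_mem_iff h.1] at h1
  exact hp a h1

theorem Rep.smul_mem {e : Fin l → NL} {a : Fin l} {z : N} {s : R} (h : Rep e a z s) (he : IsAdmissible L NL e) {r : R} (hr : r ∈ q) :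
    r • z ∈ sat (spanBefore L NL e a) := by
  rw [mem_sat, map_smul, ← sub_add_cancel (ι q N z) (s • e a), smul_add, ← algebraMap_smul L r (ι q N z - s • e a)]
  refine add_mem (Submodule.smul_mem _ _ h.2) ?_
  rw [smul_comm, ← algebraMap_smul L r (e a), ← algebraMap_smul L s]
  exact Submodule.smul_mem _ _ (he a _ (algebraMap_mem_max hr))

theorem piece_finite {e : Fin l → NL} {a : Fin l} (he : IsAdmissible L NL e) (z : N) (hzC : z ∈ sat (spanBefore L NL e ((a : ℕ) + 1)))
    (hzA : z ∉ sat (spanBefore L NL e a)) :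
    len (sat (spanBefore L NL e a) ⊔ Submodule.span R {z}) (sat (spanBefore L NL e ((a : ℕ) + 1))) ≠ ⊤ := by
  refine Lattice.len_ne_top (q := q) (sup_le (sat_mono (sb_mono e (Nat.le_succ _)))
    ((Submodule.span_singleton_le_iff_mem _ _).2 hzC)) (fun c hc r hr => Submodule.mem_sup_left ?_) fun c hc => ?_
  · obtain ⟨d, hd⟩ := exists_coeff e a hc
    rw [mem_sat, map_smul, ← algebraMap_smul L r, ← sub_add_cancel (ι q N c) (d • e a), smul_add]
    refine add_mem (Submodule.smul_mem _ _ hd) ?_
    rw [smul_comm]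
    exact Submodule.smul_mem _ _ (he a _ (algebraMap_mem_max hr))
  · obtain ⟨cz, hcz⟩ := exists_unit_coeff he hzA hzC
    obtain ⟨d, hd⟩ := exists_coeff e a hc
    obtain ⟨r, t, hrt⟩ := IsLocalization.exists_mk'_eq q.primeCompl (d * ↑cz⁻¹)
    refine ⟨t, t.2, Submodule.mem_sup.2 ⟨(t : R) • c - r • z, ?_, r • z,
      Submodule.smul_mem _ r (Submodule.mem_span_singleton_self z), sub_add_cancel _ _⟩⟩
    have hr : algebraMap R L r = algebraMap R L (t : R) * (d * ↑cz⁻¹) := by
      rw [← hrt, mul_comm, IsLocalization.mk'_spec]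
    rw [mem_sat, map_sub, map_smul, map_smul, ← algebraMap_smul L (t : R), ← algebraMap_smul L r, hr]
    have h2 := sub_mem (Submodule.smul_mem _ (algebraMap R L (t : R)) hd)
      (Submodule.smul_mem _ (algebraMap R L (t : R) * (d * ↑cz⁻¹)) hcz)
    have h3 : algebraMap R L (t : R) * (d * ↑cz⁻¹) * (cz : L) = algebraMap R L (t : R) * d := by
      rw [mul_assoc, mul_assoc, Units.inv_mul, mul_one]
    rw [smul_sub, smul_sub, smul_smul, smul_smul, h3] at h2
    simpa using h2

theorem scale {e : Fin l → NL} {a : Fin l} {z : N} {s : R} (h : Rep e a z s) (he : IsAdmissible L NL e) (hp : Proper (R := L) e) {r : R} (hr : r ∉ q) :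
    ((len (sat (spanBefore L NL e a) ⊔ Submodule.span R {r • z}) (sat (spanBefore L NL e ((a : ℕ) + 1)))).toNat : ℤ) =
      ((len (sat (spanBefore L NL e a) ⊔ Submodule.span R {z}) (sat (spanBefore L NL e ((a : ℕ) + 1)))).toNat : ℤ)
        + oR q r := by
  rw [len_add (B := sat (spanBefore L NL e a) ⊔ Submodule.span R {z})
    (sup_le_sup_left ((Submodule.span_singleton_le_iff_mem _ _).2
      (Submodule.smul_mem _ r (Submodule.mem_span_singleton_self z))) _)
    (sup_le (sat_mono (sb_mono e (Nat.le_succ _))) ((Submodule.span_singleton_le_iff_mem _ _).2 h.mem)),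
    len_scale (q := q) (fun b hb => h.smul_mem he hb) (fun b hb => h.eq_zero_of_mem hp hb) r,
    ENat.toNat_add (ord_ne_top hr) (piece_finite he z h.mem fun hz => by
      have := h.eq_zero_of_mem hp (r := 1) (by rwa [one_smul])
      exact (‹q.IsPrime›).ne_top ((q.eq_top_iff_one).2 this))]
  unfold oR
  push_cast
  ring

theorem val_indep {e : Fin l → NL} {a : Fin l} {z : N} {s : R} (h : Rep e a z s) (he : IsAdmissible L NL e) (hp : Proper (R := L) e) {z' : N} {s' : R}
    (h' : Rep e a z' s') : val e a z s = val e a z' s' := by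
  have hmem : s' • z - s • z' ∈ sat (spanBefore L NL e a) := by
    rw [mem_sat, map_sub, map_smul, map_smul]
    have := sub_mem (Submodule.smul_mem _ (algebraMap R L s') h.2) (Submodule.smul_mem _ (algebraMap R L s) h'.2)
    rw [algebraMap_smul, algebraMap_smul, smul_sub, smul_sub, smul_smul, smul_smul, mul_comm s' s] at this
    simpa using this
  have heq : sat (spanBefore L NL e a) ⊔ Submodule.span R {s' • z} =
      sat (spanBefore L NL e a) ⊔ Submodule.span R {s • z'} := by
    refine le_antisymm (sup_le le_sup_left ((Submodule.span_singleton_le_iff_mem _ _).2 ?_))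
      (sup_le le_sup_left ((Submodule.span_singleton_le_iff_mem _ _).2 ?_))
    · exact Submodule.mem_sup.2 ⟨_, hmem, _, Submodule.mem_span_singleton_self _, sub_add_cancel _ _⟩
    · exact Submodule.mem_sup.2 ⟨_, neg_mem hmem, _, Submodule.mem_span_singleton_self _, by abel⟩
  have h1 := scale h he hp h'.1
  rw [heq, scale h' he hp h.1] at h1
  unfold val
  linarith

end Rep

/-- The contribution of the entry `a`. -/
noncomputable def piece (e : Fin l → NL) (a : Fin l) : ℤ :=
  val e a (exists_rep e a).choose (exists_rep e a).choose_spec.choose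

theorem piece_eq {e : Fin l → NL} (he : IsAdmissible L NL e) (hp : Proper (R := L) e) {a : Fin l}
    {z : N} {s : R} (h : Rep e a z s) : piece e a = val e a z s :=
  val_indep (exists_rep e a).choose_spec.choose_spec he hp h

/-- The index of a tuple. -/
noncomputable def idx (e : Fin l → NL) : ℤ := ∑ a, piece e a

theorem piece_congr {e e' : Fin l → NL} (he : IsAdmissible L NL e) (hp : Proper (R := L) e)
    (he' : IsAdmissible L NL e') (hp' : Proper (R := L) e') (j : Fin l) (hj : e j = e' j)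
    (h0 : spanBefore L NL e j = spanBefore L NL e' j)
    (h1 : spanBefore L NL e ((j : ℕ) + 1) = spanBefore L NL e' ((j : ℕ) + 1)) :
    piece e j = piece e' j := by
  obtain ⟨z, s, hz⟩ := exists_rep e j
  have hz' : Rep e' j z s := ⟨hz.1, by rw [← hj, ← h0]; exact hz.2⟩
  rw [piece_eq he hp hz, piece_eq he' hp' hz', val, val, h0, h1]

/-- Two tuples differing by `s` in symbols and by `ord s` in index. -/
def Rel (e e' : Adm L NL l) : Prop :=
  ∃ s : q.ResidueField, s ≠ 0 ∧ cls e = s • cls e' ∧ idx e.1 - idx e'.1 = oF q s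

theorem Rel.refl (e : Adm L NL l) : Rel e e :=
  ⟨1, one_ne_zero, (one_smul _ _).symm, by rw [sub_self, oF_one]⟩

theorem Rel.trans {e e' e'' : Adm L NL l} (h : Rel e e') (h' : Rel e' e'') : Rel e e'' := by
  obtain ⟨s, hs, h1, h2⟩ := h
  obtain ⟨t, ht, h3, h4⟩ := h'
  exact ⟨s * t, mul_ne_zero hs ht, by rw [h1, h3, smul_smul], by rw [oF_mul hs ht]; linarith⟩

theorem rel_replace {e e' : Adm L NL l} (hp : Proper (R := L) e.1) (i : Fin l) (c : (Localization.AtPrime q)ˣ)
    (hj : ∀ j, j ≠ i → e.1 j = e'.1 j) (ha : e.1 i - (c : L) • e'.1 i ∈ spanBefore L NL e.1 i) : Rel e e' := by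
  have hp' := proper_of_replace e.1 e'.1 i c hj ha hp
  have hsb := sb_eq_of_replace e.1 e'.1 i c hj ha
  obtain ⟨r, h, hrh⟩ := IsLocalization.exists_mk'_eq q.primeCompl (c : L)
  have hr : r ∉ q := (IsLocalization.AtPrime.isUnit_mk'_iff L q r h).1 (by rw [hrh]; exact c.isUnit)
  have hres : residue L (c : L) * algebraMap R q.ResidueField (h : R) = algebraMap R q.ResidueField r := by
    change residue L (c : L) * residue L (algebraMap R L (h : R)) = residue L (algebraMap R L r)
    rw [← map_mul, ← hrh, IsLocalization.mk'_spec]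
  have hc0 : residue L (c : L) ≠ 0 := residue_unit_ne_zero c
  have hh0 : algebraMap R q.ResidueField (h : R) ≠ 0 := (residue_unit_ne_zero (isUnit_algebraMap h.2).unit :)
  refine ⟨residue L (c : L), hc0, respects_cls.replace' e e' i c hj ha, ?_⟩
  have hoc : oF q (residue L (c : L)) + oR q (h : R) = oR q r := by
    rw [← oF_algebraMap h.2, ← oF_algebraMap hr, ← hres]
    exact (oF_mul hc0 hh0).symm
  unfold idx
  rw [← Finset.sum_sub_distrib, Finset.sum_eq_single i
    (fun j _ hne => sub_eq_zero.2 (piece_congr e.2 hp e'.2 hp' j (hj j hne) (hsb _) (hsb _)))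
    (fun hni => absurd (Finset.mem_univ i) hni)]
  obtain ⟨z, s, hz⟩ := exists_rep e.1 i
  have hz' : Rep e'.1 i ((h : R) • z) (s * r) := by
    refine ⟨fun hm => ((‹q.IsPrime›).mem_or_mem hm).elim hz.1 hr, ?_⟩
    rw [← hsb, map_smul]
    have h1 := add_mem (Submodule.smul_mem _ (algebraMap R L (h : R)) hz.2)
      (Submodule.smul_mem _ (algebraMap R L ((h : R) * s)) ha)
    have h2 : algebraMap R L ((h : R) * s) * (c : L) = algebraMap R L (s * r) := by
      rw [← hrh, map_mul, map_mul, mul_comm (algebraMap R L (h : R)) (algebraMap R L s), mul_assoc,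
        mul_comm (algebraMap R L (h : R)) (IsLocalization.mk' L r h), IsLocalization.mk'_spec]
    rw [smul_sub, smul_sub ((algebraMap R L) ((h : R) * s)), smul_smul, h2, algebraMap_smul,
      algebraMap_smul, algebraMap_smul, algebraMap_smul, mul_smul (h : R) s] at h1
    simpa using h1
  rw [piece_eq e.2 hp hz, piece_eq e'.2 hp' hz', val, val, ← hsb, ← hsb, scale hz e.2 hp h.2,
    oR_mul hz.1 hr]
  linarith

theorem pair {e : Fin l → NL} (he : IsAdmissible L NL e) (hp : Proper (R := L) e) (a b : Fin l)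
    (hab : (b : ℕ) + 1 = a) (hm : ∀ r ∈ maximalIdeal L, r • e a ∈ spanBefore L NL e b)
    {za zb : N} {sa sb : R} (ha : sa ∉ q) (hb : sb ∉ q) (hza : ι q N za = sa • e a) (hzb : ι q N zb = sb • e b) :
    piece e a + piece e b =
      ((len (sat (spanBefore L NL e b) ⊔ Submodule.span R {zb} ⊔ Submodule.span R {za})
        (sat (spanBefore L NL e ((a : ℕ) + 1)))).toNat : ℤ) - oR q sa - oR q sb := by
  have hra : Rep e a za sa := ⟨ha, by rw [hza, sub_self]; exact zero_mem _⟩
  have hrb : Rep e b zb sb := ⟨hb, by rw [hzb, sub_self]; exact zero_mem _⟩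
  rw [piece_eq he hp hra, piece_eq he hp hrb, val, val, hab]
  have hne : ∀ {j : Fin l} {z : N} {s : R}, Rep e j z s → z ∉ sat (spanBefore L NL e j) := fun hj hz =>
    (‹q.IsPrime›).ne_top ((q.eq_top_iff_one).2 (hj.eq_zero_of_mem hp (r := 1) (by rwa [one_smul])))
  have h1 : len (sat (spanBefore L NL e b) ⊔ Submodule.span R {zb}) (sat (spanBefore L NL e a)) ≠ ⊤ := by
    rw [← hab]
    exact piece_finite he zb hrb.mem (hne hrb)
  rw [len_step (A := sat (spanBefore L NL e b) ⊔ Submodule.span R {zb}) (B := sat (spanBefore L NL e a))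
    (sup_le (sat_mono (sb_mono e (by omega)))
      ((Submodule.span_singleton_le_iff_mem _ _).2 (by rw [← hab]; exact hrb.mem)))
    (sat_mono (sb_mono e (Nat.le_succ _))) hra.mem (fun r hr => ?_),
    ENat.toNat_add h1 (piece_finite he za hra.mem (hne hra))]
  · push_cast
    ring
  · refine Submodule.mem_sup_left ?_
    rw [mem_sat, map_smul, hza, smul_comm, ← algebraMap_smul L r (e a), smul_mem_iff ha]
    exact hm _ (algebraMap_mem_max (hra.eq_zero_of_mem hp hr))

theorem rel_swap {e : Adm L NL l} (hp : Proper (R := L) e.1) (a b : Fin l) (hab : (b : ℕ) + 1 = a)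
    (hm : ∀ r ∈ maximalIdeal L, r • e.1 a ∈ spanBefore L NL e.1 b) :
    Rel e ⟨e.1 ∘ Equiv.swap a b, adm_swap e.1 a b hab e.2 hm⟩ := by
  refine ⟨-1, neg_ne_zero.2 one_ne_zero, ?_, ?_⟩
  · rw [neg_one_smul]
    exact eq_neg_of_add_eq_zero_left (respects_cls.swap' e ⟨_, adm_swap e.1 a b hab e.2 hm⟩ a b hab hm rfl)
  rw [oF_neg_one, sub_eq_zero]
  set f := e.1 ∘ Equiv.swap a b with hf
  have hfa : IsAdmissible L NL f := adm_swap e.1 a b hab e.2 hm
  have hfp : Proper (R := L) f := proper_swap e.1 a b hab hm hp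
  obtain ⟨za, sa, hsa, hza⟩ := exists_scale (e.1 a)
  obtain ⟨zb, sb, hsb, hzb⟩ := exists_scale (e.1 b)
  have hpe := pair e.2 hp a b hab hm hsa hsb hza hzb
  have hpf := pair hfa hfp a b hab (hm_swap e.1 a b hab e.2) hsb hsa
    (show ι q N zb = sb • f a by rw [hf, Function.comp_apply, Equiv.swap_apply_left]; exact hzb)
    (show ι q N za = sa • f b by rw [hf, Function.comp_apply, Equiv.swap_apply_right]; exact hza)
  rw [show spanBefore L NL f b = spanBefore L NL e.1 b from sb_swap e.1 a b hab b (by omega),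
    show spanBefore L NL f ((a : ℕ) + 1) = spanBefore L NL e.1 ((a : ℕ) + 1) from
      sb_swap e.1 a b hab _ (by omega), sup_right_comm] at hpf
  show ∑ j, piece e.1 j = ∑ j, piece f j
  rw [← sub_eq_zero, ← Finset.sum_sub_distrib, Finset.sum_eq_add a b (fun h => by rw [h] at hab; omega)
    (fun j _ hj => sub_eq_zero.2 (piece_congr e.2 hp hfa hfp j
      (by rw [hf, Function.comp_apply, Equiv.swap_apply_of_ne_of_ne hj.1 hj.2])
      (sb_swap e.1 a b hab j fun h => hj.1 (Fin.ext h)).symm
      (sb_swap e.1 a b hab _ (fun h => hj.2 (Fin.ext (by omega)))).symm))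
    (fun h => absurd (Finset.mem_univ a) h) (fun h => absurd (Finset.mem_univ b) h)]
  linarith

/-- Move an entry to the left, keeping track of the index. -/
theorem exists_move_rel {p : ℕ} :
    ∀ (n : ℕ) (e : Adm L NL l) (i : Fin l), (i : ℕ) = p + n → Proper (R := L) e.1 →
      (∀ r ∈ maximalIdeal L, r • e.1 i ∈ spanBefore L NL e.1 p) →
      ∃ e' : Adm L NL l, Proper (R := L) e'.1 ∧ (∀ j : Fin l, (j : ℕ) < p → e'.1 j = e.1 j) ∧
        (∀ j : Fin l, (j : ℕ) = p → e'.1 j = e.1 i) ∧ Rel e e' := by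
  intro n
  induction n with
  | zero =>
    intro e i hi hp _
    exact ⟨e, hp, fun j _ => rfl, fun j hj => by rw [Fin.ext (hj.trans hi.symm)], Rel.refl e⟩
  | succ n ih =>
    intro e i hi hp hm
    let b : Fin l := ⟨p + n, by have := i.2; omega⟩
    have hbi : (b : ℕ) + 1 = i := by simp only [b]; omega
    have hm' : ∀ r ∈ maximalIdeal L, r • e.1 i ∈ spanBefore L NL e.1 b := fun r hr =>
      sb_mono e.1 (by simp only [b]; omega) (hm r hr)
    let e1 : Adm L NL l := ⟨e.1 ∘ Equiv.swap i b, adm_swap e.1 i b hbi e.2 hm'⟩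
    have hlt : ∀ j : Fin l, (j : ℕ) < p → e1.1 j = e.1 j := fun j hj => by
      show e.1 (Equiv.swap i b j) = e.1 j
      rw [Equiv.swap_apply_of_ne_of_ne (fun h => by rw [h] at hj; omega)
        (fun h => by rw [h] at hj; simp only [b] at hj; omega)]
    have hb : e1.1 b = e.1 i := by
      show e.1 (Equiv.swap i b b) = _
      rw [Equiv.swap_apply_right]
    obtain ⟨e', hp', h1, h2, hs⟩ := ih e1 b rfl (proper_swap e.1 i b hbi hm' hp) (fun r hr => by
      rw [hb, sb_congr e1.1 e.1 p hlt]; exact hm r hr)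
    exact ⟨e', hp', fun j hj => (h1 j hj).trans (hlt j hj), fun j hj => (h2 j hj).trans hb,
      (rel_swap hp i b hbi hm').trans hs⟩

/-- Any two full proper tuples are related. -/
theorem rel_of_proper (hfull : ∀ e : Adm L NL l, Proper (R := L) e.1 → Submodule.span L (Set.range e.1) = ⊤) :
    ∀ (d : ℕ) (e e' : Adm L NL l), Proper (R := L) e.1 → Proper (R := L) e'.1 →
      (∀ j : Fin l, (j : ℕ) + d < l → e.1 j = e'.1 j) → Rel e e' := by
  intro d
  induction d with
  | zero =>
    intro e e' _ _ h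
    have : e = e' := Subtype.ext (funext fun j => h j (by simp))
    exact this ▸ Rel.refl e
  | succ d ih =>
    intro e e' hp hp' h
    by_cases hd : l ≤ d
    · exact ih e e' hp hp' fun j hj => absurd hj (by omega)
    let i₀ : Fin l := ⟨l - (d + 1), by omega⟩
    have hsb : spanBefore L NL e.1 i₀ = spanBefore L NL e'.1 i₀ :=
      sb_congr _ _ _ fun j hj => h j (by simp only [i₀] at hj; omega)
    set x := e'.1 i₀ with hx
    have hxq : x ∉ spanBefore L NL e.1 i₀ := hsb ▸ hp' i₀
    have hxtop : x ∈ spanBefore L NL e.1 l := by rw [sb_top, hfull e hp]; trivial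
    classical
    have hex : ∃ k, x ∈ spanBefore L NL e.1 k := ⟨l, hxtop⟩
    have hkle : Nat.find hex ≤ l := Nat.find_min' hex hxtop
    have hkgt : (i₀ : ℕ) < Nat.find hex := by
      by_contra hle
      exact hxq (sb_mono e.1 (not_lt.1 hle) (Nat.find_spec hex))
    let i : Fin l := ⟨Nat.find hex - 1, by omega⟩
    have hxi : x ∈ spanBefore L NL e.1 ((i : ℕ) + 1) := by
      have : (i : ℕ) + 1 = Nat.find hex := by simp only [i]; omega
      rw [this]; exact Nat.find_spec hex
    have hxi' : x ∉ spanBefore L NL e.1 i := Nat.find_min hex (by simp only [i]; omega)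
    obtain ⟨c, hc⟩ := exists_unit_coeff e.2 hxi' hxi
    let f : Fin l → NL := Function.update e.1 i x
    have hf : ∀ j, j ≠ i → e.1 j = f j := fun j hj => (Function.update_of_ne hj x e.1).symm
    have hfi : f i = x := Function.update_self i x e.1
    have ha : e.1 i - ((c⁻¹ : (Localization.AtPrime q)ˣ) : L) • f i ∈ spanBefore L NL e.1 i := by
      have h1 := Submodule.smul_mem _ ((c⁻¹ : (Localization.AtPrime q)ˣ) : L) hc
      rw [smul_sub, smul_smul, Units.inv_mul, one_smul] at h1
      rw [hfi]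
      simpa using neg_mem h1
    let e1 : Adm L NL l := ⟨f, adm_of_replace e.1 f i c⁻¹ hf ha e.2⟩
    have hp1 : Proper (R := L) e1.1 := proper_of_replace e.1 f i c⁻¹ hf ha hp
    have hsb1 : spanBefore L NL f i₀ = spanBefore L NL e.1 i₀ :=
      (sb_eq_of_replace e.1 f i c⁻¹ hf ha i₀).symm
    obtain ⟨e2, hp2, h1, h2, hs⟩ := exists_move_rel (p := (i₀ : ℕ)) ((i : ℕ) - i₀) e1 i
      (by simp only [i]; omega) hp1 (fun r hr => by
        show r • f i ∈ spanBefore L NL f i₀
        rw [hfi, hsb1, hsb]; exact e'.2 i₀ r hr)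
    refine ((rel_replace hp i c⁻¹ hf ha : Rel e e1).trans hs).trans (ih e2 e' hp2 hp' fun j hj => ?_)
    rcases Nat.lt_or_ge (j : ℕ) i₀ with hjq | hjq
    · rw [h1 j hjq]
      show f j = _
      rw [← hf j (fun hji => by rw [hji] at hjq; simp only [i] at hjq; omega)]
      exact h j (by simp only [i₀] at hjq; omega)
    · have hjq' : j = i₀ := Fin.ext (by simp only [i₀] at hjq ⊢; omega)
      rw [h2 j (by rw [hjq']), hjq']
      exact hfi

section Filtration

variable [IsLocalRing R] (z : Fin l → N)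

theorem sb_le_sat (k : ℕ) : spanBefore R N z k ≤ sat (spanBefore L NL (ι q N ∘ z) k) :=
  (sb_le_iff z k _).2 fun _ hj => mem_sb (ι q N ∘ z) hj

theorem mem_sat_iff (k : ℕ) (n : N) :
    n ∈ sat (spanBefore L NL (ι q N ∘ z) k) → ∀ (_ : Function.Injective (ι q N)),
      ∃ h ∉ q, h • n ∈ spanBefore R N z k := by
  intro hn hinj
  rw [mem_sat, spanBefore, Set.image_comp] at hn
  obtain ⟨m, h, hh, hm, heq⟩ := exists_smul_mem_span hn
  rw [← map_smul] at heq
  exact ⟨h, hh, by rw [hinj heq]; exact hm⟩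

theorem adm_of_filtration (hq : ∀ a : Fin l, ∀ r ∈ q, r • z a ∈ spanBefore R N z a) :
    IsAdmissible L NL (ι q N ∘ z) := by
  intro a c hc
  obtain ⟨r, t, rfl⟩ := IsLocalization.exists_mk'_eq q.primeCompl c
  have hr : r ∈ q := (IsLocalization.AtPrime.mk'_mem_maximal_iff L q r t).1 hc
  rw [Function.comp_apply, IsLocalization.mk'_eq_mul_mk'_one, mul_comm, mul_smul, algebraMap_smul, ← map_smul]
  exact Submodule.smul_mem _ _ (sb_le_sat z a (hq a r hr))

theorem partial_len (hinj : Function.Injective (ι q N)) (hp : Proper (R := L) (ι q N ∘ z))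
    (hq : ∀ a : Fin l, ∀ r ∈ q, r • z a ∈ spanBefore R N z a) :
    ∀ k, k ≤ l → len (spanBefore R N z k) (sat (spanBefore L NL (ι q N ∘ z) k)) ≠ ⊤ ∧
      ((len (spanBefore R N z k) (sat (spanBefore L NL (ι q N ∘ z) k))).toNat : ℤ) =
        ∑ a ∈ Finset.univ.filter (fun a : Fin l => (a : ℕ) < k), piece (ι q N ∘ z) a := by
  have he := adm_of_filtration (q := q) z hq
  intro k
  induction k with
  | zero =>
    intro _
    have h0 : sat (spanBefore L NL (ι q N ∘ z) 0) = spanBefore R N z 0 := by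
      rw [sb_zero, sb_zero, eq_bot_iff]
      intro n hn
      rw [mem_sat, Submodule.mem_bot] at hn
      exact (Submodule.mem_bot R).2 (hinj (hn.trans (map_zero _).symm))
    rw [h0, len_self]
    simp
  | succ k ih =>
    intro hk
    obtain ⟨hfin, hval⟩ := ih (Nat.le_of_succ_le hk)
    let a : Fin l := ⟨k, hk⟩
    have hrep : Rep (ι q N ∘ z) a (z a) 1 :=
      ⟨fun h => (‹q.IsPrime›).ne_top ((q.eq_top_iff_one).2 h), by rw [one_smul, Function.comp_apply, sub_self]; exact zero_mem _⟩
    have hne : z a ∉ sat (spanBefore L NL (ι q N ∘ z) a) := hp a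
    have hsucc : spanBefore R N z (k + 1) = spanBefore R N z k ⊔ Submodule.span R {z a} := sb_succ z a
    have hstep := len_step (A := spanBefore R N z k) (B := sat (spanBefore L NL (ι q N ∘ z) k))
      (C := sat (spanBefore L NL (ι q N ∘ z) (k + 1))) (sb_le_sat z k) (sat_mono (sb_mono _ (Nat.le_succ _)))
      (z := z a) hrep.mem (fun r hr => hq a r (hrep.eq_zero_of_mem hp hr))
    rw [hsucc, hstep]
    have hpf := piece_finite (a := a) he (z a) hrep.mem hne
    refine ⟨WithTop.add_ne_top.2 ⟨hfin, hpf⟩, ?_⟩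
    have hfil : (Finset.univ.filter fun b : Fin l => (b : ℕ) < k + 1) =
        insert a (Finset.univ.filter fun b : Fin l => (b : ℕ) < k) := by
      ext b
      simp only [Finset.mem_filter, Finset.mem_univ, true_and, Finset.mem_insert, Fin.ext_iff, a]
      omega
    rw [ENat.toNat_add hfin hpf, hfil, Finset.sum_insert (by simp [a]), piece_eq he hp hrep, val, oR_one,
      Nat.cast_add, hval]
    ring

end Filtration

end Groth.Agent.L13.CycDet.Coker
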