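import Groth.Agent.L13.CycDet.Main
import Mathlib.LinearAlgebra.TensorProduct.Basic

/-! Concatenation of tuples along a short exact sequence. -/

set_option autoImplicit false
set_option linter.unusedSectionVars false
universe u v

open CycDet IsLocalRing
open scoped TensorProduct

namespace Groth.Agent.L13.CycDet

variable {R : Type u} [CommRing R] [IsLocalRing R] {K L M : Type v}
  [AddCommGroup K] [Module R K] [AddCommGroup L] [Module R L] [AddCommGroup M] [Module R M]
  (f : K →ₗ[R] L) (g : L →ₗ[R] M) {p m n : ℕ} (hn : p + m = n)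

/-- `G` consists of the images of `eK` followed by lifts of `eM`. -/
structure IsCat (eK : Fin p → K) (eM : Fin m → M) (G : Fin n → L) : Prop where
  left : ∀ i : Fin p, G (Fin.cast hn (Fin.castAdd m i)) = f (eK i)
  right : ∀ j : Fin m, g (G (Fin.cast hn (Fin.natAdd p j))) = eM j

variable {f g hn} {eK : Fin p → K} {eM : Fin m → M} {G : Fin n → L}

include hn in
theorem pos_cases (t : Fin n) :
    (∃ i : Fin p, t = Fin.cast hn (Fin.castAdd m i)) ∨ ∃ j : Fin m, t = Fin.cast hn (Fin.natAdd p j) := by
  rcases Nat.lt_or_ge (t : ℕ) p with h | h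
  · exact Or.inl ⟨⟨t, h⟩, Fin.ext rfl⟩
  · exact Or.inr ⟨⟨(t : ℕ) - p, by omega⟩, Fin.ext (by simp; omega)⟩

theorem IsCat.sb_left (h : IsCat f g hn eK eM G) (k : ℕ) (hk : k ≤ p) :
    spanBefore R L G k = (spanBefore R K eK k).map f := by
  apply le_antisymm
  · refine (sb_le_iff _ _ _).2 fun t ht => ?_
    obtain ⟨i, rfl⟩ | ⟨j, rfl⟩ := pos_cases (hn := hn) t
    · rw [h.left]
      exact Submodule.mem_map_of_mem (mem_sb eK (by simpa using ht))
    · simp only [Fin.val_cast, Fin.val_natAdd] at ht
      omega
  · rw [Submodule.map_le_iff_le_comap, sb_le_iff]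
    intro i hi
    rw [Submodule.mem_comap, ← h.left]
    exact mem_sb G (by simpa using hi)

variable (hfg : LinearMap.range f = LinearMap.ker g) (hK : Submodule.span R (Set.range eK) = ⊤)
include hfg hK

theorem IsCat.sb_right (h : IsCat f g hn eK eM G) (k : ℕ) :
    spanBefore R L G (p + k) = (spanBefore R M eM k).comap g := by
  have hker : LinearMap.ker g ≤ spanBefore R L G (p + k) := by
    rw [← hfg, ← Submodule.map_top, ← hK, ← sb_top, ← h.sb_left p le_rfl]
    exact sb_mono G (Nat.le_add_right p k)
  have hmap : (spanBefore R L G (p + k)).map g = spanBefore R M eM k := by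
    apply le_antisymm
    · rw [Submodule.map_le_iff_le_comap, sb_le_iff]
      intro t ht
      rw [Submodule.mem_comap]
      obtain ⟨i, rfl⟩ | ⟨j, rfl⟩ := pos_cases (hn := hn) t
      · have h0 : g (f (eK i)) = 0 := LinearMap.mem_ker.1 (hfg ▸ ⟨eK i, rfl⟩)
        rw [h.left, h0]
        exact zero_mem _
      · rw [h.right]
        exact mem_sb eM (by simpa using ht)
    · rw [sb_le_iff]
      intro j hj
      rw [← h.right]
      exact Submodule.mem_map_of_mem (mem_sb G (by simpa using hj))
  rw [← hmap, Submodule.comap_map_eq, sup_eq_left.2 hker]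

theorem IsCat.adm (h : IsCat f g hn eK eM G) (hKa : IsAdmissible R K eK)
    (hMa : IsAdmissible R M eM) : IsAdmissible R L G := by
  intro t r hr
  obtain ⟨i, rfl⟩ | ⟨j, rfl⟩ := pos_cases (hn := hn) t
  · rw [h.left, ← map_smul, show ((Fin.cast hn (Fin.castAdd m i) : Fin n) : ℕ) = i from rfl,
      h.sb_left i i.2.le]
    exact Submodule.mem_map_of_mem (hKa i r hr)
  · rw [show ((Fin.cast hn (Fin.natAdd p j) : Fin n) : ℕ) = p + j from rfl, h.sb_right hfg hK,
      Submodule.mem_comap, map_smul, h.right]
    exact hMa j r hr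

theorem IsCat.proper_iff (h : IsCat f g hn eK eM G) (hf : Function.Injective f)
    (hKp : Proper (R := R) eK) : Proper (R := R) G ↔ Proper (R := R) eM := by
  constructor
  · intro hG j hj
    refine hG (Fin.cast hn (Fin.natAdd p j)) ?_
    rw [show ((Fin.cast hn (Fin.natAdd p j) : Fin n) : ℕ) = p + j from rfl, h.sb_right hfg hK,
      Submodule.mem_comap, h.right]
    exact hj
  · intro hM t
    obtain ⟨i, rfl⟩ | ⟨j, rfl⟩ := pos_cases (hn := hn) t
    · rw [h.left, show ((Fin.cast hn (Fin.castAdd m i) : Fin n) : ℕ) = i from rfl,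
        h.sb_left i i.2.le, Submodule.mem_map]
      rintro ⟨y, hy, hyf⟩
      exact hKp i (hf hyf ▸ hy)
    · rw [show ((Fin.cast hn (Fin.natAdd p j) : Fin n) : ℕ) = p + j from rfl, h.sb_right hfg hK,
        Submodule.mem_comap, h.right]
      exact hM j

theorem IsCat.cls_eq (hKa : IsAdmissible R K eK) (hMa : IsAdmissible R M eM) {G' : Fin n → L}
    (h : IsCat f g hn eK eM G) (h' : IsCat f g hn eK eM G') :
    cls (⟨G, h.adm hfg hK hKa hMa⟩ : Adm R L n) = cls ⟨G', h'.adm hfg hK hKa hMa⟩ := by
  classical
  let H : ℕ → Fin n → L := fun k t => if (t : ℕ) < k then G' t else G t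
  have hH : ∀ k, IsCat f g hn eK eM (H k) := fun k =>
    ⟨fun i => by simp only [H]; split_ifs <;> simp [h.left, h'.left],
      fun j => by simp only [H]; split_ifs <;> simp [h.right, h'.right]⟩
  have hstep : ∀ k, k ≤ n → cls (⟨G, h.adm hfg hK hKa hMa⟩ : Adm R L n) =
      cls ⟨H k, (hH k).adm hfg hK hKa hMa⟩ := by
    intro k
    induction k with
    | zero =>
      intro _
      exact congrArg cls (Subtype.ext (funext fun t => by simp [H]))
    | succ k ih =>
      intro hk
      rw [ih (Nat.le_of_succ_le hk)]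
      let a : Fin n := ⟨k, hk⟩
      have hr := respects_cls.replace' (R := R) (M := L) ⟨H k, (hH k).adm hfg hK hKa hMa⟩
        ⟨H (k + 1), (hH (k + 1)).adm hfg hK hKa hMa⟩ a 1 (fun t ht => by
          have : (t : ℕ) ≠ k := fun e => ht (Fin.ext e)
          simp only [H]
          congr 1
          simp only [eq_iff_iff]
          omega) (by
        show H k a - ((1 : Rˣ) : R) • H (k + 1) a ∈ spanBefore R L (H k) (a : ℕ)
        rw [Units.val_one, one_smul]
        rcases Nat.lt_or_ge k p with hkp | hkp
        · have ha : a = Fin.cast hn (Fin.castAdd m ⟨k, hkp⟩) := Fin.ext rfl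
          rw [ha, (hH k).left, (hH (k + 1)).left, sub_self]
          exact zero_mem _
        · have ha : a = Fin.cast hn (Fin.natAdd p ⟨k - p, by omega⟩) := Fin.ext (by simp [a]; omega)
          rw [ha, show ((Fin.cast hn (Fin.natAdd p ⟨k - p, by omega⟩) : Fin n) : ℕ) = p + (k - p)
            from rfl, (hH k).sb_right hfg hK, Submodule.mem_comap, map_sub, (hH k).right,
            (hH (k + 1)).right, sub_self]
          exact zero_mem _)
      rwa [Units.val_one, map_one, one_smul] at hr
  rw [hstep n le_rfl]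
  exact congrArg cls (Subtype.ext (funext fun t => by simp [H, t.2]))

end Groth.Agent.L13.CycDet
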