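import Groth.Agent.L13.CycDet.Rank
import Mathlib.Tactic.FieldSimp
import Mathlib.Tactic.Ring
import Mathlib.Tactic.LinearCombination

/-! A nonvanishing functional on symbols. -/

set_option autoImplicit false
set_option linter.unusedSectionVars false
universe u v

open CycDet IsLocalRing

namespace Groth.Agent.L13.CycDet

variable {R : Type u} [CommRing R] [IsLocalRing R]

theorem sb_map {M : Type v} [AddCommGroup M] [Module R M] {P : Type v} [AddCommGroup P] [Module R P]
    (π : M →ₗ[R] P) {l : ℕ} (g : Fin l → M) (k : ℕ) :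
    spanBefore R P (π ∘ g) k = (spanBefore R M g k).map π := by
  rw [spanBefore, spanBefore, Submodule.map_span, Set.image_comp]

theorem val_succAbove {n : ℕ} (i : Fin (n + 1)) (j : Fin n) :
    ((i.succAbove j : Fin (n + 1)) : ℕ) = if (j : ℕ) < i then (j : ℕ) else j + 1 := by
  unfold Fin.succAbove
  simp only [Fin.lt_def, Fin.val_castSucc]
  split_ifs <;> simp

theorem residue_unit_ne_zero (c : Rˣ) : residue R (c : R) ≠ 0 := (c.isUnit.map (residue R)).ne_zero

section Step

variable {M : Type v} [AddCommGroup M] [Module R M] {l : ℕ} (x : M)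

/-- `x` first occurs at position `i`, with coefficient `c`. -/
def Pos (e : Fin (l + 1) → M) (i : Fin (l + 1)) (c : Rˣ) : Prop :=
  x - (c : R) • e i ∈ spanBefore R M e i

/-- The tuple in the quotient by `x`. -/
def qtup (e : Fin (l + 1) → M) (i : Fin (l + 1)) : Fin l → M ⧸ Submodule.span R {x} :=
  (Submodule.span R {x}).mkQ ∘ (e ∘ i.succAbove)

variable {x}
variable (hm : ∀ r ∈ maximalIdeal R, r • x = 0)
variable {e : Fin (l + 1) → M} {i : Fin (l + 1)} {c : Rˣ}

theorem mem_of_pos (h : Pos x e i c) (k : ℕ) (hk : (i : ℕ) < k) : x ∈ spanBefore R M e k := by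
  have h1 := add_mem (sb_mono e hk.le h) (Submodule.smul_mem _ (c : R) (mem_sb e hk))
  simpa using h1

theorem not_mem_of_pos (hp : Proper (R := R) e) (h : Pos x e i c) : x ∉ spanBefore R M e i := by
  intro hx
  refine hp i ?_
  have h1 := Submodule.smul_mem _ (↑c⁻¹ : R) (sub_mem hx h)
  rw [sub_sub_cancel, smul_smul, Units.inv_mul, one_smul] at h1
  exact h1

theorem pos_unique (he : IsAdmissible R M e) (hp : Proper (R := R) e) (h : Pos x e i c)
    {i' : Fin (l + 1)} {c' : Rˣ} (h' : Pos x e i' c') :
    i = i' ∧ residue R (c : R) = residue R (c' : R) := by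
  have hi : i = i' := by
    rcases lt_trichotomy (i : ℕ) i' with hlt | heq | hlt
    · exact absurd (mem_of_pos h _ hlt) (not_mem_of_pos hp h')
    · exact Fin.ext heq
    · exact absurd (mem_of_pos h' _ hlt) (not_mem_of_pos hp h)
  subst hi
  refine ⟨rfl, Ideal.Quotient.eq.2 ?_⟩
  by_contra hu
  have hu' : IsUnit ((c : R) - c') := not_not.1 hu
  refine hp i ?_
  have h1 := Submodule.smul_mem _ (↑hu'.unit⁻¹ : R) (sub_mem h' h)
  have h2 : (x - (c' : R) • e i) - (x - (c : R) • e i) = ((c : R) - c') • e i := by
    rw [sub_smul]; abel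
  rwa [h2, smul_smul, IsUnit.val_inv_mul, one_smul] at h1

theorem exists_pos (he : IsAdmissible R M e) (htop : x ∈ spanBefore R M e (l + 1)) (hx : x ≠ 0) :
    ∃ (i : Fin (l + 1)) (c : Rˣ), Pos x e i c := by
  classical
  have hex : ∃ k, x ∈ spanBefore R M e k := ⟨_, htop⟩
  have hle := Nat.find_min' hex htop
  have hpos : 0 < Nat.find hex := Nat.pos_of_ne_zero fun h0 => hx (by
    simpa [h0, sb_zero] using Nat.find_spec hex)
  let i : Fin (l + 1) := ⟨Nat.find hex - 1, by omega⟩
  have h1 : x ∈ spanBefore R M e ((i : ℕ) + 1) := by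
    have : (i : ℕ) + 1 = Nat.find hex := by simp only [i]; omega
    rw [this]; exact Nat.find_spec hex
  obtain ⟨c, hc⟩ := exists_unit_coeff he (Nat.find_min hex (by simp only [i]; omega)) h1
  exact ⟨i, c, hc⟩

theorem mem_qtup_iff (h : Pos x e i c) (j : Fin l) (z : M) :
    (Submodule.span R {x}).mkQ z ∈ spanBefore R (M ⧸ Submodule.span R {x}) (qtup x e i) j ↔
      z ∈ spanBefore R M e (i.succAbove j) ⊔ Submodule.span R {x} := by
  have hmono := Fin.strictMono_succAbove i
  have key : spanBefore R M (e ∘ i.succAbove) j ⊔ Submodule.span R {x} =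
      spanBefore R M e (i.succAbove j) ⊔ Submodule.span R {x} := by
    apply le_antisymm
    · refine sup_le_sup_right ((sb_le_iff _ _ _).2 fun j' hj' => mem_sb e ?_) _
      exact Fin.lt_def.1 (hmono (Fin.lt_def.2 hj'))
    · refine sup_le ((sb_le_iff _ _ _).2 fun t ht => ?_) le_sup_right
      have hpre : ∀ t : Fin (l + 1), (t : ℕ) < (i.succAbove j : ℕ) → t ≠ i →
          e t ∈ spanBefore R M (e ∘ i.succAbove) j := by
        intro t ht hti
        obtain ⟨j', rfl⟩ := Fin.exists_succAbove_eq hti
        exact mem_sb (e ∘ i.succAbove) (Fin.lt_def.1 (hmono.lt_iff_lt.1 (Fin.lt_def.2 ht)))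
      rcases eq_or_ne t i with rfl | hti
      · have hsub : spanBefore R M e t ≤ spanBefore R M (e ∘ t.succAbove) j :=
          (sb_le_iff _ _ _).2 fun t' ht' => hpre t' (lt_trans ht' ht) (fun h => by rw [h] at ht'; omega)
        have h1 : (c : R) • e t ∈ spanBefore R M (e ∘ t.succAbove) j ⊔ Submodule.span R {x} := by
          rw [show (c : R) • e t = x - (x - (c : R) • e t) by abel]
          exact sub_mem (Submodule.mem_sup_right (Submodule.mem_span_singleton_self x))
            (Submodule.mem_sup_left (hsub h))
        have h2 := Submodule.smul_mem _ (↑c⁻¹ : R) h1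
        rwa [smul_smul, Units.inv_mul, one_smul] at h2
      · exact Submodule.mem_sup_left (hpre t ht hti)
  rw [qtup, sb_map, ← Submodule.mem_comap, Submodule.comap_map_mkQ, sup_comm, key]

theorem qtup_adm (he : IsAdmissible R M e) (h : Pos x e i c) :
    IsAdmissible R (M ⧸ Submodule.span R {x}) (qtup x e i) := by
  intro j r hr
  show r • (Submodule.span R {x}).mkQ (e (i.succAbove j)) ∈ _
  rw [← map_smul, mem_qtup_iff h]
  exact Submodule.mem_sup_left (he _ r hr)

include hm in
theorem qtup_proper (hp : Proper (R := R) e) (h : Pos x e i c) :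
    Proper (R := R) (qtup (R := R) x e i) := by
  intro j hj
  change (Submodule.span R {x}).mkQ (e (i.succAbove j)) ∈ _ at hj
  rw [mem_qtup_iff h, Submodule.mem_sup] at hj
  obtain ⟨p, hp', q, hq, hpq⟩ := hj
  obtain ⟨r, rfl⟩ := Submodule.mem_span_singleton.1 hq
  set a := i.succAbove j with ha
  rcases lt_trichotomy (a : ℕ) i with hlt | heq | hlt
  · by_cases hu : IsUnit r
    · refine not_mem_of_pos hp h ?_
      have h1 : r • x ∈ spanBefore R M e i := by
        rw [show r • x = e a - p by rw [← hpq]; abel]
        exact sub_mem (mem_sb e hlt) (sb_mono e hlt.le hp')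
      have h2 := Submodule.smul_mem _ (↑hu.unit⁻¹ : R) h1
      rwa [smul_smul, IsUnit.val_inv_mul, one_smul] at h2
    · rw [hm r hu, add_zero] at hpq
      exact hp a (hpq ▸ hp')
  · exact absurd (Fin.ext heq) (Fin.succAbove_ne i j)
  · exact hp a (hpq ▸ add_mem hp' (Submodule.smul_mem _ r (mem_of_pos h _ hlt)))

include hm in
theorem qfull (hx : x ≠ 0)
    (hfull : ∀ e : Adm R M (l + 1), Proper (R := R) e.1 → Submodule.span R (Set.range e.1) = ⊤)
    (f : Adm R (M ⧸ Submodule.span R {x}) l) (hf : Proper (R := R) f.1) :
    Submodule.span R (Set.range f.1) = ⊤ := by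
  classical
  let π := (Submodule.span R {x}).mkQ
  choose g hg using fun j => Submodule.mkQ_surjective (Submodule.span R {x}) (f.1 j)
  let G : Fin (l + 1) → M := Fin.cons x g
  have hfg : f.1 = π ∘ g := funext fun j => (hg j).symm
  have hsb : ∀ k : ℕ, spanBefore R M G (k + 1) =
      (spanBefore R (M ⧸ Submodule.span R {x}) f.1 k).comap π := by
    intro k
    rw [hfg, sb_map, Submodule.comap_map_mkQ]
    apply le_antisymm
    · refine (sb_le_iff _ _ _).2 fun t ht => ?_
      induction t using Fin.cases with
      | zero => exact Submodule.mem_sup_left (Submodule.mem_span_singleton_self x)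
      | succ t =>
        rw [show G t.succ = g t from Fin.cons_succ _ _ _]
        exact Submodule.mem_sup_right (mem_sb g (by simpa using ht))
    · refine sup_le ((Submodule.span_singleton_le_iff_mem _ _).2 ?_) ((sb_le_iff _ _ _).2 fun t ht => ?_)
      · have h0 : G 0 = x := Fin.cons_zero (α := fun _ : Fin (l + 1) => M) x g
        exact h0 ▸ mem_sb G (by simp)
      · have h0 : G t.succ = g t := Fin.cons_succ (α := fun _ : Fin (l + 1) => M) x g t
        exact h0 ▸ mem_sb G (by simpa using ht)
  have hGadm : IsAdmissible R M G := by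
    intro t r hr
    induction t using Fin.cases with
    | zero => rw [show G 0 = x from Fin.cons_zero _ _, hm r hr]; exact zero_mem _
    | succ t =>
      rw [show G t.succ = g t from Fin.cons_succ _ _ _, Fin.val_succ, hsb, Submodule.mem_comap,
        map_smul, hg]
      exact f.2 t r hr
  have hGp : Proper (R := R) G := by
    intro t
    induction t using Fin.cases with
    | zero =>
      rw [show G 0 = x from Fin.cons_zero _ _, Fin.val_zero, sb_zero, Submodule.mem_bot]
      exact hx
    | succ t =>
      rw [show G t.succ = g t from Fin.cons_succ _ _ _, Fin.val_succ, hsb, Submodule.mem_comap, hg]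
      exact hf t
  have htop := hfull ⟨G, hGadm⟩ hGp
  rw [← sb_top, hsb] at htop
  rw [← sb_top, eq_top_iff]
  rintro z -
  obtain ⟨y, rfl⟩ := Submodule.mkQ_surjective (Submodule.span R {x}) z
  have hy : y ∈ (⊤ : Submodule R M) := trivial
  rw [← htop] at hy
  exact hy

end Step

/-- The functional. -/
theorem exists_functional : ∀ (l : ℕ) (M : Type v) [AddCommGroup M] [Module R M],
    (∀ e : Adm R M l, Proper (R := R) e.1 → Submodule.span R (Set.range e.1) = ⊤) →
    ∃ D : Adm R M l → ResidueField R, Respects D ∧ ∀ e, Proper (R := R) e.1 → D e ≠ 0 := by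
  intro l
  induction l with
  | zero =>
    intro M _ _ _
    exact ⟨fun _ => 1, ⟨fun e h => absurd (fun a => a.elim0) h, fun _ _ a => a.elim0,
      fun _ _ a => a.elim0⟩, fun _ _ => one_ne_zero⟩
  | succ l ih =>
    intro M _ _ hfull
    classical
    by_cases hex : ∃ e0 : Adm R M (l + 1), Proper (R := R) e0.1
    swap
    · exact ⟨fun _ => 0, ⟨fun _ _ => rfl, fun _ _ _ _ _ _ => by simp, fun _ _ _ _ _ _ _ => by simp⟩,
        fun e he => absurd ⟨e, he⟩ hex⟩
    obtain ⟨e0, he0⟩ := hex
    set x := e0.1 0 with hxdef
    have hx : x ≠ 0 := fun h => he0 0 (by rw [← hxdef, h]; exact zero_mem _)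
    have hm : ∀ r ∈ maximalIdeal R, r • x = 0 := fun r hr => by
      have := e0.2 0 r hr
      simpa [sb_zero] using this
    obtain ⟨D', hD', hD'0⟩ := ih (M ⧸ Submodule.span R {x}) (qfull hm hx hfull)
    have hpos : ∀ e : Adm R M (l + 1), Proper (R := R) e.1 → ∃ (i : Fin (l + 1)) (c : Rˣ), Pos x e.1 i c :=
      fun e he => exists_pos e.2 (by rw [sb_top, hfull e he]; trivial) hx
    choose I C hIC using hpos
    let D : Adm R M (l + 1) → ResidueField R := fun e =>
      if h : Proper (R := R) e.1 then (-1) ^ (I e h : ℕ) * (residue R (C e h : R))⁻¹ *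
        D' ⟨qtup x e.1 (I e h), qtup_adm e.2 (hIC e h)⟩ else 0
    have D_eq : ∀ (e : Adm R M (l + 1)) (i : Fin (l + 1)) (c : Rˣ) (_ : Proper (R := R) e.1)
        (hi : Pos x e.1 i c), D e = (-1) ^ (i : ℕ) * (residue R (c : R))⁻¹ *
          D' ⟨qtup x e.1 i, qtup_adm e.2 hi⟩ := by
      intro e i c hp hi
      obtain ⟨h1, h2⟩ := pos_unique e.2 hp hi (hIC e hp)
      subst h1
      simp only [D, dif_pos hp, h2]
    have D_zero : ∀ e : Adm R M (l + 1), ¬ Proper (R := R) e.1 → D e = 0 := fun e he => dif_neg he
    refine ⟨D, ⟨D_zero, ?_, ?_⟩, fun e he => ?_⟩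
    rotate_right
    · rw [D_eq e _ _ he (hIC e he)]
      exact mul_ne_zero (mul_ne_zero (pow_ne_zero _ (neg_ne_zero.2 one_ne_zero))
        (inv_ne_zero (residue_unit_ne_zero _))) (hD'0 _ (qtup_proper hm he (hIC e he)))
    · -- replacement
      intro e e' a u hj ha
      have hiff := proper_replace_iff e.1 e'.1 a u hj ha
      by_cases hp : Proper (R := R) e.1
      swap
      · rw [D_zero e hp, D_zero e' (mt hiff.2 hp), smul_zero]
      have hp' := hiff.1 hp
      obtain ⟨i, c, hi⟩ : ∃ i c, Pos x e.1 i c := ⟨_, _, hIC e hp⟩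
      have hsb := sb_eq_of_replace e.1 e'.1 a u hj ha
      rcases eq_or_ne i a with rfl | hia
      · have hi' : Pos x e'.1 i (c * u) := by
          show x - ((c * u : Rˣ) : R) • e'.1 i ∈ spanBefore R M e'.1 i
          rw [← hsb, show x - ((c * u : Rˣ) : R) • e'.1 i =
            (x - (c : R) • e.1 i) + (c : R) • (e.1 i - (u : R) • e'.1 i) by
              rw [smul_sub, smul_smul, Units.val_mul]; abel]
          exact add_mem hi (Submodule.smul_mem _ _ ha)
        have hq : qtup (R := R) x e'.1 i = qtup x e.1 i := funext fun j => by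
          simp only [qtup, Function.comp_apply, hj _ (Fin.succAbove_ne i j)]
        rw [D_eq e i c hp hi, D_eq e' i (c * u) hp' hi']
        simp only [hq, Units.val_mul, map_mul, smul_eq_mul]
        field_simp [residue_unit_ne_zero c, residue_unit_ne_zero u]
      · have hi' : Pos x e'.1 i c := by
          show x - (c : R) • e'.1 i ∈ spanBefore R M e'.1 i
          rw [← hsb, ← hj i hia]
          exact hi
        obtain ⟨j, hja⟩ := Fin.exists_succAbove_eq (Ne.symm hia)
        have hrep := hD'.replace' ⟨_, qtup_adm e.2 hi⟩ ⟨_, qtup_adm e'.2 hi'⟩ j u (fun k hk => by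
          simp only [qtup, Function.comp_apply]
          rw [hj _ fun h => hk (Fin.succAbove_right_injective (h.trans hja.symm))]) (by
          show (Submodule.span R {x}).mkQ (e.1 (i.succAbove j)) -
            (u : R) • (Submodule.span R {x}).mkQ (e'.1 (i.succAbove j)) ∈ _
          rw [← map_smul, ← map_sub, mem_qtup_iff hi, hja]
          exact Submodule.mem_sup_left ha)
        rw [D_eq e i c hp hi, D_eq e' i c hp' hi', hrep, smul_eq_mul, smul_eq_mul]
        ring
    · -- swap
      intro e e' a b hab hma he'
      have hiff := proper_swap_iff e.1 a b hab e.2 hma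
      rw [← he'] at hiff
      by_cases hp : Proper (R := R) e.1
      swap
      · rw [D_zero e hp, D_zero e' (mt hiff.2 hp), add_zero]
      have hp' := hiff.1 hp
      have caseB : ∀ (e e' : Adm R M (l + 1)), Proper (R := R) e.1 → Proper (R := R) e'.1 →
          e'.1 = e.1 ∘ Equiv.swap a b → ∀ c : Rˣ, Pos x e.1 b c → D e + D e' = 0 := by
        intro e e' hp hp' he' c hi
        have hi' : Pos x e'.1 a c := by
          show x - (c : R) • e'.1 a ∈ spanBefore R M e'.1 a
          rw [he', sb_swap_at e.1 a b hab, Function.comp_apply, Equiv.swap_apply_left]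
          exact Submodule.mem_sup_left hi
        have hq : qtup (R := R) x e'.1 a = qtup x e.1 b := funext fun j => by
          simp only [qtup, Function.comp_apply, he']
          refine congrArg (fun t => (Submodule.span R {x}).mkQ (e.1 t)) ?_
          have h1 := val_succAbove a j
          have h2 := val_succAbove b j
          rcases lt_trichotomy (j : ℕ) b with hjb | hjb | hjb
          · rw [if_pos (by omega)] at h1
            rw [if_pos (by omega)] at h2
            rw [Equiv.swap_apply_of_ne_of_ne (fun h => by rw [h] at h1; omega)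
              (fun h => by rw [h] at h1; omega)]
            exact Fin.ext (h1.trans h2.symm)
          · rw [if_pos (by omega)] at h1
            rw [if_neg (by omega)] at h2
            rw [show a.succAbove j = b from Fin.ext (h1.trans hjb), Equiv.swap_apply_right]
            exact Fin.ext (by omega)
          · rw [if_neg (by omega)] at h1
            rw [if_neg (by omega)] at h2
            rw [Equiv.swap_apply_of_ne_of_ne (fun h => by rw [h] at h1; omega)
              (fun h => by rw [h] at h1; omega)]
            exact Fin.ext (h1.trans h2.symm)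
        rw [D_eq e b c hp hi, D_eq e' a c hp' hi']
        simp only [hq, ← hab, pow_succ]
        ring
      obtain ⟨i, c, hi⟩ : ∃ i c, Pos x e.1 i c := ⟨_, _, hIC e hp⟩
      rcases eq_or_ne i b with rfl | hib
      · exact caseB e e' hp hp' he' c hi
      rcases eq_or_ne i a with rfl | hia
      · have hi0 := hi
        rw [Pos, ← hab] at hi0
        obtain ⟨d, hd⟩ := exists_coeff e.1 b hi0
        by_cases hu : IsUnit d
        · obtain ⟨d, rfl⟩ := hu
          have hi' : Pos x e'.1 i d := by
            show x - (d : R) • e'.1 i ∈ spanBefore R M e'.1 i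
            rw [he', sb_swap_at e.1 i b hab, Function.comp_apply, Equiv.swap_apply_left,
              show x - (d : R) • e.1 b = (x - (c : R) • e.1 i - (d : R) • e.1 b) + (c : R) • e.1 i by abel]
            exact add_mem (Submodule.mem_sup_left hd)
              (Submodule.mem_sup_right (Submodule.smul_mem _ _ (Submodule.mem_span_singleton_self _)))
          have hbi : b ≠ i := Ne.symm hib
          obtain ⟨j, hjb⟩ := Fin.exists_succAbove_eq hbi
          let u : Rˣ := -(d⁻¹ * c)
          have hrep := hD'.replace' ⟨_, qtup_adm e.2 hi⟩ ⟨_, qtup_adm e'.2 hi'⟩ j u (fun k hk => by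
            simp only [qtup, Function.comp_apply, he']
            rw [Equiv.swap_apply_of_ne_of_ne (Fin.succAbove_ne i k)
              fun h => hk (Fin.succAbove_right_injective (h.trans hjb.symm))]) (by
            show (Submodule.span R {x}).mkQ (e.1 (i.succAbove j)) -
              (u : R) • (Submodule.span R {x}).mkQ (e'.1 (i.succAbove j)) ∈ _
            rw [← map_smul, ← map_sub, mem_qtup_iff hi, hjb, he', Function.comp_apply,
              Equiv.swap_apply_right]
            have h1 : e.1 b - (u : R) • e.1 i =
                -((↑d⁻¹ : R) • (x - (c : R) • e.1 i - (d : R) • e.1 b)) + (↑d⁻¹ : R) • x := by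
              simp only [u, Units.val_neg, Units.val_mul, smul_sub, smul_smul, Units.inv_mul, one_smul,
                neg_smul]
              abel
            rw [h1]
            exact add_mem (Submodule.mem_sup_left (neg_mem (Submodule.smul_mem _ _ hd)))
              (Submodule.mem_sup_right (Submodule.smul_mem _ _ (Submodule.mem_span_singleton_self _))))
          have hru : residue R (u : R) * residue R (d : R) = -residue R (c : R) := by
            rw [← map_mul, ← map_neg]
            congr 1
            simp [u, mul_comm (↑d⁻¹ : R) (c : R), mul_assoc]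
          rw [D_eq e i c hp hi, D_eq e' i d hp' hi', hrep, smul_eq_mul]
          field_simp [residue_unit_ne_zero c, residue_unit_ne_zero d]
          linear_combination (-1 : ResidueField R) ^ (i : ℕ) *
            D' ⟨_, qtup_adm e'.2 hi'⟩ * hru
        · have hi' : Pos x e'.1 b c := by
            show x - (c : R) • e'.1 b ∈ spanBefore R M e'.1 b
            rw [he', sb_swap e.1 i b hab b (by omega), Function.comp_apply, Equiv.swap_apply_right]
            simpa using add_mem hd (e.2 b d hu)
          rw [add_comm]
          exact caseB e' e hp' hp (by rw [he', swap_swap_self e.1 i b hab]) c hi'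
      · have hi' : Pos x e'.1 i c := by
          show x - (c : R) • e'.1 i ∈ spanBefore R M e'.1 i
          rw [he', sb_swap e.1 a b hab i (fun h => hia (Fin.ext h)), Function.comp_apply,
            Equiv.swap_apply_of_ne_of_ne hia hib]
          exact hi
        obtain ⟨ja, hja⟩ := Fin.exists_succAbove_eq (Ne.symm hia)
        obtain ⟨jb, hjb⟩ := Fin.exists_succAbove_eq (Ne.symm hib)
        have hjab : (jb : ℕ) + 1 = ja := by
          have h1 := val_succAbove i ja
          have h2 := val_succAbove i jb
          rw [hja] at h1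
          rw [hjb] at h2
          have : (i : ℕ) ≠ a := fun h => hia (Fin.ext h)
          have : (i : ℕ) ≠ b := fun h => hib (Fin.ext h)
          split_ifs at h1 h2 <;> omega
        have hsw := hD'.swap' ⟨_, qtup_adm e.2 hi⟩ ⟨_, qtup_adm e'.2 hi'⟩ ja jb hjab (fun r hr => by
          show r • (Submodule.span R {x}).mkQ (e.1 (i.succAbove ja)) ∈ _
          rw [← map_smul, mem_qtup_iff hi, hja, hjb]
          exact Submodule.mem_sup_left (hma r hr)) (funext fun k => by
          simp only [qtup, Function.comp_apply, he']
          refine congrArg (fun t => (Submodule.span R {x}).mkQ (e.1 t)) ?_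
          rw [← hja, ← hjb, Fin.succAbove_right_injective.swap_apply])
        rw [D_eq e i c hp hi, D_eq e' i c hp' hi', ← mul_add, hsw, mul_zero]

end Groth.Agent.L13.CycDet
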