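import Groth.Agent.L13.CycDet.Concat
import Mathlib.LinearAlgebra.FiniteDimensional.Lemmas
import Mathlib.LinearAlgebra.Dimension.Constructions

/-! The pairing of symbols along a short exact sequence. -/

set_option autoImplicit false
set_option linter.unusedSectionVars false
universe u v

open CycDet IsLocalRing
open scoped TensorProduct

namespace Groth.Agent.L13.CycDet

variable {R : Type u} [CommRing R] [IsLocalRing R] {K L M : Type v}
  [AddCommGroup K] [Module R K] [AddCommGroup L] [Module R L] [AddCommGroup M] [Module R M]

theorem exists_pairing (f : K →ₗ[R] L) (g : L →ₗ[R] M) (hf : Function.Injective f)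
    (hg : Function.Surjective g) (hfg : LinearMap.range f = LinearMap.ker g) {p m n : ℕ}
    (hn : p + m = n)
    (hfullK : ∀ e : Adm R K p, Proper (R := R) e.1 → Submodule.span R (Set.range e.1) = ⊤) :
    ∃ γ : DetOfLen R K p ⊗[ResidueField R] DetOfLen R M m →ₗ[ResidueField R] DetOfLen R L n,
      ∀ (eK : Adm R K p) (eM : Adm R M m) (eL : Adm R L n), Proper (R := R) eK.1 →
        IsCat f g hn eK.1 eM.1 eL.1 → γ (cls eK ⊗ₜ cls eM) = cls eL := by
  classical
  let cat : Adm R K p → Adm R M m → Fin n → L := fun eK eM t =>
    if h : (t : ℕ) < p then f (eK.1 ⟨t, h⟩)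
    else Function.surjInv hg (eM.1 ⟨(t : ℕ) - p, by have := t.2; omega⟩)
  have hcat : ∀ eK eM, IsCat f g hn eK.1 eM.1 (cat eK eM) := fun eK eM => by
    refine ⟨fun i => ?_, fun j => ?_⟩
    · have h : ((Fin.cast hn (Fin.castAdd m i) : Fin n) : ℕ) < p := i.2
      simp only [cat, dif_pos h]
      rfl
    · have h : ¬ ((Fin.cast hn (Fin.natAdd p j) : Fin n) : ℕ) < p := by simp
      simp only [cat, dif_neg h, Function.surjInv_eq hg]
      exact congrArg eM.1 (Fin.ext (by simp))
  let V : Adm R K p → Adm R M m → DetOfLen R L n := fun eK eM =>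
    if h : Proper (R := R) eK.1 then
      cls ⟨cat eK eM, (hcat eK eM).adm hfg (hfullK eK h) eK.2 eM.2⟩ else 0
  have hV : ∀ (eK : Adm R K p) (eM : Adm R M m) (eL : Adm R L n), Proper (R := R) eK.1 →
      IsCat f g hn eK.1 eM.1 eL.1 → V eK eM = cls eL := fun eK eM eL h hL => by
    simp only [V, dif_pos h]
    exact (hcat eK eM).cls_eq hfg (hfullK eK h) eK.2 eM.2 hL
  -- respects in the second variable
  have hVM : ∀ eK, Respects (V eK) := by
    intro eK
    by_cases hp : Proper (R := R) eK.1
    swap
    · have h0 : V eK = fun _ => 0 := funext fun _ => dif_neg hp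
      rw [h0]
      exact ⟨fun _ _ => rfl, fun _ _ _ _ _ _ => by simp, fun _ _ _ _ _ _ _ => by simp⟩
    have hK := hfullK eK hp
    refine ⟨fun e he => ?_, fun e e' a c hj ha => ?_, fun e e' a b hab hma he' => ?_⟩
    · simp only [V, dif_pos hp]
      exact respects_cls.degen _ fun hG =>
        he (((hcat eK e).proper_iff hfg hK hf hp).1 hG)
    · let A : Fin n := Fin.cast hn (Fin.natAdd p a)
      let G : Fin n → L := Function.update (cat eK e') A (Function.surjInv hg (e.1 a))
      have hG : IsCat f g hn eK.1 e.1 G := by
        refine ⟨fun i => ?_, fun j => ?_⟩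
        · rw [show G _ = cat eK e' _ from Function.update_of_ne (fun h => by
            have := congrArg Fin.val h; simp [A] at this; omega) _ _]
          exact (hcat eK e').left i
        · rcases eq_or_ne j a with rfl | hne
          · rw [show G _ = _ from Function.update_self _ _ _, Function.surjInv_eq hg]
          · rw [show G _ = cat eK e' _ from Function.update_of_ne (fun h => hne (Fin.ext (by
              have := congrArg Fin.val h; simp [A] at this; omega))) _ _, hj j hne]
            exact (hcat eK e').right j
      rw [hV eK e ⟨G, hG.adm hfg hK eK.2 e.2⟩ hp hG]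
      simp only [V, dif_pos hp]
      refine respects_cls.replace' _ _ A c (fun t ht => by simp only [G]; exact Function.update_of_ne ht _ _) ?_
      show G A - (c : R) • cat eK e' A ∈ spanBefore R L G (A : ℕ)
      rw [show (A : ℕ) = p + a from rfl, hG.sb_right hfg hK, Submodule.mem_comap, map_sub, map_smul,
        hG.right, (hcat eK e').right]
      exact ha
    · let A : Fin n := Fin.cast hn (Fin.natAdd p a)
      let B : Fin n := Fin.cast hn (Fin.natAdd p b)
      let G : Fin n → L := cat eK e ∘ Equiv.swap A B
      have hG : IsCat f g hn eK.1 e'.1 G := by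
        refine ⟨fun i => ?_, fun j => ?_⟩
        · show cat eK e (Equiv.swap A B _) = _
          rw [Equiv.swap_apply_of_ne_of_ne
            (fun h => by have := congrArg Fin.val h; simp [A] at this; omega)
            (fun h => by have := congrArg Fin.val h; simp [B] at this; omega)]
          exact (hcat eK e).left i
        · have hinj : Function.Injective fun j : Fin m => Fin.cast hn (Fin.natAdd p j) :=
            fun x y h => Fin.ext (by have := congrArg Fin.val h; simp at this; omega)
          show g (cat eK e (Equiv.swap A B _)) = _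
          rw [hinj.swap_apply a b j, (hcat eK e).right, he']
          rfl
      rw [hV eK e' ⟨G, hG.adm hfg hK eK.2 e'.2⟩ hp hG]
      simp only [V, dif_pos hp]
      refine respects_cls.swap' _ _ A B (by simp [A, B]; omega) (fun r hr => ?_) rfl
      show r • cat eK e A ∈ spanBefore R L (cat eK e) (B : ℕ)
      rw [show (B : ℕ) = p + b from rfl, (hcat eK e).sb_right hfg hK, Submodule.mem_comap, map_smul,
        (hcat eK e).right]
      exact hma r hr
  -- respects in the first variable
  have hVK : ∀ eM, Respects (fun eK => V eK eM) := by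
    intro eM
    refine ⟨fun e he => dif_neg he, fun e e' a c hj ha => ?_, fun e e' a b hab hma he' => ?_⟩
    · have hiff := proper_replace_iff e.1 e'.1 a c hj ha
      by_cases hp : Proper (R := R) e.1
      swap
      · simp only [V, dif_neg hp, dif_neg (mt hiff.2 hp), smul_zero]
      have hp' := hiff.1 hp
      let A : Fin n := Fin.cast hn (Fin.castAdd m a)
      let G : Fin n → L := Function.update (cat e' eM) A (f (e.1 a))
      have hG : IsCat f g hn e.1 eM.1 G := by
        refine ⟨fun i => ?_, fun j => ?_⟩
        · rcases eq_or_ne i a with rfl | hne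
          · exact Function.update_self _ _ _
          · rw [show G _ = cat e' eM _ from Function.update_of_ne (fun h => hne (Fin.ext (by
              have := congrArg Fin.val h; simp [A] at this; omega))) _ _, hj i hne]
            exact (hcat e' eM).left i
        · rw [show G _ = cat e' eM _ from Function.update_of_ne (fun h => by
            have := congrArg Fin.val h; simp [A] at this; omega) _ _]
          exact (hcat e' eM).right j
      show V e eM = _ • V e' eM
      rw [hV e eM ⟨G, hG.adm hfg (hfullK e hp) e.2 eM.2⟩ hp hG]
      simp only [V, dif_pos hp']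
      refine respects_cls.replace' _ _ A c (fun t ht => by simp only [G]; exact Function.update_of_ne ht _ _) ?_
      show G A - (c : R) • cat e' eM A ∈ spanBefore R L G (A : ℕ)
      rw [show (A : ℕ) = a from rfl, hG.sb_left a a.2.le, hG.left, (hcat e' eM).left, ← map_smul,
        ← map_sub]
      exact Submodule.mem_map_of_mem ha
    · have hiff := proper_swap_iff e.1 a b hab e.2 hma
      rw [← he'] at hiff
      by_cases hp : Proper (R := R) e.1
      swap
      · simp only [V, dif_neg hp, dif_neg (mt hiff.2 hp), add_zero]
      have hp' := hiff.1 hp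
      let A : Fin n := Fin.cast hn (Fin.castAdd m a)
      let B : Fin n := Fin.cast hn (Fin.castAdd m b)
      let G : Fin n → L := cat e eM ∘ Equiv.swap A B
      have hG : IsCat f g hn e'.1 eM.1 G := by
        refine ⟨fun i => ?_, fun j => ?_⟩
        · have hinj : Function.Injective fun j : Fin p => Fin.cast hn (Fin.castAdd m j) :=
            fun x y h => Fin.ext (by have := congrArg Fin.val h; simpa using this)
          show cat e eM (Equiv.swap A B _) = _
          rw [hinj.swap_apply a b i, (hcat e eM).left, he']
          rfl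
        · show g (cat e eM (Equiv.swap A B _)) = _
          rw [Equiv.swap_apply_of_ne_of_ne
            (fun h => by have := congrArg Fin.val h; simp [A] at this; omega)
            (fun h => by have := congrArg Fin.val h; simp [B] at this; omega)]
          exact (hcat e eM).right j
      show V e eM + V e' eM = 0
      rw [hV e' eM ⟨G, hG.adm hfg (hfullK e' hp') e'.2 eM.2⟩ hp' hG]
      simp only [V, dif_pos hp]
      refine respects_cls.swap' _ _ A B (by simpa [A, B] using hab) (fun r hr => ?_) rfl
      show r • cat e eM A ∈ spanBefore R L (cat e eM) (B : ℕ)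
      rw [show (B : ℕ) = b from rfl, (hcat e eM).sb_left b b.2.le, (hcat e eM).left, ← map_smul]
      exact Submodule.mem_map_of_mem (hma r hr)
  choose Φ hΦ using fun eK => exists_lift (hVM eK)
  have hΦr : Respects Φ := by
    have hext : ∀ F F' : DetOfLen R M m →ₗ[ResidueField R] DetOfLen R L n,
        (∀ e, F (cls e) = F' (cls e)) → F = F' := fun F F' h =>
      LinearMap.ext_on span_cls (by rintro _ ⟨e, rfl⟩; exact h e)
    refine ⟨fun e he => hext _ _ fun eM => ?_, fun e e' a c hj ha => hext _ _ fun eM => ?_,
      fun e e' a b hab hma he' => hext _ _ fun eM => ?_⟩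
    · rw [hΦ, LinearMap.zero_apply]; exact (hVK eM).degen e he
    · rw [LinearMap.smul_apply, hΦ, hΦ]; exact (hVK eM).replace' e e' a c hj ha
    · rw [LinearMap.add_apply, LinearMap.zero_apply, hΦ, hΦ]
      exact (hVK eM).swap' e e' a b hab hma he'
  obtain ⟨Ψ, hΨ⟩ := exists_lift hΦr
  refine ⟨TensorProduct.lift Ψ, fun eK eM eL hp hL => ?_⟩
  rw [TensorProduct.lift.tmul, hΨ, hΦ, hV eK eM eL hp hL]

theorem exists_gamma (f : K →ₗ[R] L) (g : L →ₗ[R] M) (hf : Function.Injective f)
    (hg : Function.Surjective g) (hfg : LinearMap.range f = LinearMap.ker g)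
    (hK : IsFiniteLength R K) (hM : IsFiniteLength R M)
    (hlen : (Module.length R K).toNat + (Module.length R M).toNat = (Module.length R L).toNat) :
    ∃ γ : (Det R K ⊗[ResidueField R] Det R M) ≃ₗ[ResidueField R] Det R L,
      ∀ (eK : Adm R K (Module.length R K).toNat) (eM : Adm R M (Module.length R M).toNat)
        (eL : Adm R L (Module.length R L).toNat), Proper (R := R) eK.1 →
        IsCat f g hlen eK.1 eM.1 eL.1 → γ (cls eK ⊗ₜ cls eM) = cls eL := by
  classical
  have hL : IsFiniteLength R L := by
    rw [← Module.length_ne_top_iff, Module.length_eq_add_of_exact f g hf hg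
      (LinearMap.exact_iff.2 hfg.symm)]
    exact WithTop.add_ne_top.2 ⟨Module.length_ne_top_iff.2 hK, Module.length_ne_top_iff.2 hM⟩
  obtain ⟨γ, hγ⟩ := exists_pairing f g hf hg hfg hlen (hfull_of_isFiniteLength hK)
  have hLr : Module.finrank (ResidueField R) (Det R L) = 1 := finrank_det hL
  have hr : Module.finrank (ResidueField R) (Det R K ⊗[ResidueField R] Det R M) = 1 := by
    rw [Module.finrank_tensorProduct, finrank_det hK, finrank_det hM]
  obtain ⟨eK, heK⟩ := exists_proper_adm hK
  obtain ⟨eM, heM⟩ := exists_proper_adm hM
  have hKtop := hfull_of_isFiniteLength hK eK heK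
  let G : Fin (Module.length R L).toNat → L := fun t =>
    if h : (t : ℕ) < (Module.length R K).toNat then f (eK.1 ⟨t, h⟩)
    else Function.surjInv hg (eM.1 ⟨(t : ℕ) - (Module.length R K).toNat, by have := t.2; omega⟩)
  have hG : IsCat f g hlen eK.1 eM.1 G := by
    refine ⟨fun i => ?_, fun j => ?_⟩
    · have h : ((Fin.cast hlen (Fin.castAdd _ i) : Fin _) : ℕ) < (Module.length R K).toNat := i.2
      simp only [G, dif_pos h]
      rfl
    · have h : ¬ ((Fin.cast hlen (Fin.natAdd (Module.length R K).toNat j) : Fin _) : ℕ)
          < (Module.length R K).toNat := by simp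
      simp only [G, dif_neg h, Function.surjInv_eq hg]
      exact congrArg eM.1 (Fin.ext (by simp))
  let eL : Adm R L (Module.length R L).toNat := ⟨G, hG.adm hfg hKtop eK.2 eM.2⟩
  have hne : cls eL ≠ 0 := cls_ne_zero hL eL ((hG.proper_iff hfg hKtop hf heK).2 heM)
  have : FiniteDimensional (ResidueField R) (Det R L) := Module.finite_of_finrank_eq_succ hLr
  have : FiniteDimensional (ResidueField R) (Det R K ⊗[ResidueField R] Det R M) :=
    Module.finite_of_finrank_eq_succ hr
  have hsurj : Function.Surjective γ := by
    intro z
    obtain ⟨c, hc⟩ := (finrank_eq_one_iff_of_nonzero' (cls eL) hne).1 hLr z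
    exact ⟨c • (cls eK ⊗ₜ cls eM), by rw [map_smul, hγ eK eM eL heK hG, hc]⟩
  exact ⟨LinearEquiv.ofBijective γ
    ⟨(LinearMap.injective_iff_surjective_of_finrank_eq_finrank (hr.trans hLr.symm)).2 hsurj, hsurj⟩,
    hγ⟩

end Groth.Agent.L13.CycDet
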