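import Groth.Agent.L13.CycDet.Basic
import Mathlib.LinearAlgebra.Quotient.Basic
import Mathlib.LinearAlgebra.Finsupp.Span
import Mathlib.LinearAlgebra.Dimension.FreeAndStrongRankCondition

/-! Maps out of the space of symbols, and its rank. -/

set_option autoImplicit false
set_option linter.unusedSectionVars false
universe u v w

open CycDet IsLocalRing

namespace Groth.Agent.L13.CycDet

variable {R : Type u} [CommRing R] [IsLocalRing R] {M : Type v} [AddCommGroup M] [Module R M]
  {l : ℕ}

/-- A function on admissible tuples respecting the admissible relations. -/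
structure Respects {W : Type w} [AddCommGroup W] [Module (ResidueField R) W]
    (D : Adm R M l → W) : Prop where
  degen : ∀ e : Adm R M l, ¬ Proper (R := R) e.1 → D e = 0
  replace' : ∀ (e e' : Adm R M l) (a : Fin l) (c : Rˣ), (∀ j, j ≠ a → e.1 j = e'.1 j) →
    e.1 a - (c : R) • e'.1 a ∈ spanBefore R M e.1 a → D e = residue R (c : R) • D e'
  swap' : ∀ (e e' : Adm R M l) (a b : Fin l), (b : ℕ) + 1 = a →
    (∀ r ∈ maximalIdeal R, r • e.1 a ∈ spanBefore R M e.1 b) → e'.1 = e.1 ∘ Equiv.swap a b →
    D e + D e' = 0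

/-- The class of a tuple. -/
noncomputable def cls (e : Adm R M l) : DetOfLen R M l := Submodule.Quotient.mk (sym R M e)

theorem respects_cls : Respects (W := DetOfLen R M l) (cls : Adm R M l → DetOfLen R M l) where
  degen e h := by
    obtain ⟨a, ha⟩ := not_forall_not.1 h
    exact (Submodule.Quotient.mk_eq_zero _).2 (Submodule.subset_span (Or.inl (Or.inl ⟨e, a, ha, rfl⟩)))
  replace' e e' a c hj ha := by
    rw [cls, cls, ← Submodule.Quotient.mk_smul, Submodule.Quotient.eq]
    exact Submodule.subset_span (Or.inl (Or.inr ⟨e, e', a, c, hj, ha, rfl⟩))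
  swap' e e' a b hab hm he' := by
    rw [cls, cls, ← Submodule.Quotient.mk_add, Submodule.Quotient.mk_eq_zero]
    exact Submodule.subset_span (Or.inr ⟨e, e', a, b, hab, hm, he', rfl⟩)

/-- The linear map attached to a relation-respecting function. -/
theorem exists_lift {W : Type w} [AddCommGroup W] [Module (ResidueField R) W]
    {D : Adm R M l → W} (hD : Respects D) :
    ∃ Φ : DetOfLen R M l →ₗ[ResidueField R] W, ∀ e, Φ (cls e) = D e := by
  refine ⟨Submodule.liftQ _ (Finsupp.linearCombination (ResidueField R) D) ?_, fun e => ?_⟩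
  · rw [Submodule.span_le]
    rintro x ((⟨e, a, ha, rfl⟩ | ⟨e, e', a, c, hj, ha, rfl⟩) | ⟨e, e', a, b, hab, hm, he', rfl⟩)
    · simp [sym, hD.degen e fun h => h a ha]
    · simp [sym, hD.replace' e e' a c hj ha]
    · simp [sym, hD.swap' e e' a b hab hm he']
  · simp [cls, sym]

theorem span_cls : Submodule.span (ResidueField R) (Set.range (cls : Adm R M l → DetOfLen R M l)) = ⊤ := by
  rw [eq_top_iff]
  intro x _
  obtain ⟨f, rfl⟩ := Submodule.Quotient.mk_surjective _ x
  induction f using Finsupp.induction_linear with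
  | zero => exact zero_mem _
  | add f g hf hg => rw [Submodule.Quotient.mk_add]; exact add_mem (hf trivial) (hg trivial)
  | single e c =>
    have h : Finsupp.single e c = c • sym R M e := by simp [sym]
    rw [h, Submodule.Quotient.mk_smul]
    exact Submodule.smul_mem _ c (Submodule.subset_span ⟨e, rfl⟩)

/-- Move an entry to the left. -/
theorem exists_move {p : ℕ} :
    ∀ (n : ℕ) (e : Adm R M l) (i : Fin l), (i : ℕ) = p + n → Proper (R := R) e.1 →
      (∀ r ∈ maximalIdeal R, r • e.1 i ∈ spanBefore R M e.1 p) →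
      ∃ e' : Adm R M l, Proper (R := R) e'.1 ∧ (∀ j : Fin l, (j : ℕ) < p → e'.1 j = e.1 j) ∧
        (∀ j : Fin l, (j : ℕ) = p → e'.1 j = e.1 i) ∧
        ∃ s : ResidueField R, cls e = s • cls e' := by
  intro n
  induction n with
  | zero =>
    intro e i hi hp _
    exact ⟨e, hp, fun j _ => rfl, fun j hj => by rw [Fin.ext (hj.trans hi.symm) ],
      1, (one_smul _ _).symm⟩
  | succ n ih =>
    intro e i hi hp hm
    let b : Fin l := ⟨p + n, by have := i.2; omega⟩
    have hbi : (b : ℕ) + 1 = i := by simp only [b]; omega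
    have hm' : ∀ r ∈ maximalIdeal R, r • e.1 i ∈ spanBefore R M e.1 b := fun r hr =>
      sb_mono e.1 (by simp only [b]; omega) (hm r hr)
    let e1 : Adm R M l := ⟨e.1 ∘ Equiv.swap i b, adm_swap e.1 i b hbi e.2 hm'⟩
    have hlt : ∀ j : Fin l, (j : ℕ) < p → e1.1 j = e.1 j := fun j hj => by
      show e.1 (Equiv.swap i b j) = e.1 j
      rw [Equiv.swap_apply_of_ne_of_ne (fun h => by rw [h] at hj; omega)
        (fun h => by rw [h] at hj; simp only [b] at hj; omega)]
    have hb : e1.1 b = e.1 i := by
      show e.1 (Equiv.swap i b b) = _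
      rw [Equiv.swap_apply_right]
    obtain ⟨e', hp', h1, h2, s, hs⟩ := ih e1 b rfl (proper_swap e.1 i b hbi hm' hp) (fun r hr => by
      rw [hb, sb_congr e1.1 e.1 p hlt]; exact hm r hr)
    refine ⟨e', hp', fun j hj => (h1 j hj).trans (hlt j hj), fun j hj => (h2 j hj).trans hb, -s, ?_⟩
    rw [neg_smul, ← hs, eq_neg_iff_add_eq_zero]
    exact respects_cls.swap' e e1 i b hbi hm' rfl

/-- All symbols of proper tuples are proportional. -/
theorem cls_proportional
    (hfull : ∀ e : Adm R M l, Proper (R := R) e.1 → Submodule.span R (Set.range e.1) = ⊤) :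
    ∀ (d : ℕ) (e e' : Adm R M l), Proper (R := R) e.1 → Proper (R := R) e'.1 →
      (∀ j : Fin l, (j : ℕ) + d < l → e.1 j = e'.1 j) →
      ∃ s : ResidueField R, cls e = s • cls e' := by
  intro d
  induction d with
  | zero =>
    intro e e' _ _ h
    have : e = e' := Subtype.ext (funext fun j => h j (by simp))
    exact ⟨1, by rw [this, one_smul]⟩
  | succ d ih =>
    intro e e' hp hp' h
    by_cases hd : l ≤ d
    · exact ih e e' hp hp' fun j hj => absurd hj (by omega)
    let q : Fin l := ⟨l - (d + 1), by omega⟩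
    have hsb : spanBefore R M e.1 q = spanBefore R M e'.1 q :=
      sb_congr _ _ _ fun j hj => h j (by simp only [q] at hj; omega)
    set x := e'.1 q with hx
    have hxq : x ∉ spanBefore R M e.1 q := hsb ▸ hp' q
    have hxtop : x ∈ spanBefore R M e.1 l := by rw [sb_top, hfull e hp]; trivial
    classical
    have hex : ∃ k, x ∈ spanBefore R M e.1 k := ⟨l, hxtop⟩
    have hkle : Nat.find hex ≤ l := Nat.find_min' hex hxtop
    have hkgt : (q : ℕ) < Nat.find hex := by
      by_contra hle
      exact hxq (sb_mono e.1 (not_lt.1 hle) (Nat.find_spec hex))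
    let i : Fin l := ⟨Nat.find hex - 1, by omega⟩
    have hxi : x ∈ spanBefore R M e.1 ((i : ℕ) + 1) := by
      have : (i : ℕ) + 1 = Nat.find hex := by simp only [i]; omega
      rw [this]; exact Nat.find_spec hex
    have hxi' : x ∉ spanBefore R M e.1 i := Nat.find_min hex (by simp only [i]; omega)
    obtain ⟨c, hc⟩ := exists_unit_coeff e.2 hxi' hxi
    -- replace the entry at `i` by `x`
    let f : Fin l → M := Function.update e.1 i x
    have hf : ∀ j, j ≠ i → e.1 j = f j := fun j hj => (Function.update_of_ne hj x e.1).symm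
    have hfi : f i = x := Function.update_self i x e.1
    have ha : e.1 i - ((c⁻¹ : Rˣ) : R) • f i ∈ spanBefore R M e.1 i := by
      have h1 := Submodule.smul_mem _ ((c⁻¹ : Rˣ) : R) hc
      rw [smul_sub, smul_smul, Units.inv_mul, one_smul] at h1
      rw [hfi]
      simpa using neg_mem h1
    let e1 : Adm R M l := ⟨f, adm_of_replace e.1 f i c⁻¹ hf ha e.2⟩
    have hp1 : Proper (R := R) e1.1 := proper_of_replace e.1 f i c⁻¹ hf ha hp
    have hs1 := respects_cls.replace' e e1 i c⁻¹ hf ha
    -- move it to `q`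
    have hqi : (q : ℕ) ≤ i := by simp only [i]; omega
    have hsb1 : spanBefore R M f q = spanBefore R M e.1 q :=
      (sb_eq_of_replace e.1 f i c⁻¹ hf ha q).symm
    obtain ⟨e2, hp2, h1, h2, s, hs⟩ := exists_move (p := (q : ℕ)) ((i : ℕ) - q) e1 i (by omega) hp1 (fun r hr => by
      show r • f i ∈ spanBefore R M f q
      rw [hfi, hsb1, hsb]; exact e'.2 q r hr)
    obtain ⟨t, ht⟩ := ih e2 e' hp2 hp' fun j hj => by
      rcases Nat.lt_or_ge (j : ℕ) q with hjq | hjq
      · rw [h1 j hjq]
        show f j = _
        rw [← hf j (fun hji => by rw [hji] at hjq; omega)]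
        exact h j (by simp only [q] at hjq; omega)
      · have hjq' : j = q := Fin.ext (by simp only [q] at hjq ⊢; omega)
        rw [h2 j (by rw [hjq']), hjq']
        exact hfi
    exact ⟨residue R ((c⁻¹ : Rˣ) : R) * s * t, by rw [hs1, hs, ht, smul_smul, smul_smul, mul_assoc]⟩

theorem rank_le_one
    (hfull : ∀ e : Adm R M l, Proper (R := R) e.1 → Submodule.span R (Set.range e.1) = ⊤) :
    Module.rank (ResidueField R) (DetOfLen R M l) ≤ 1 := by
  rw [rank_le_one_iff]
  by_cases h : ∃ e0 : Adm R M l, Proper (R := R) e0.1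
  · obtain ⟨e0, h0⟩ := h
    refine ⟨cls e0, fun x => ?_⟩
    have hx : x ∈ Submodule.span (ResidueField R) (Set.range (cls : Adm R M l → DetOfLen R M l)) := by
      rw [span_cls]; trivial
    have hle : Submodule.span (ResidueField R) (Set.range (cls : Adm R M l → DetOfLen R M l)) ≤
        Submodule.span (ResidueField R) {cls e0} := by
      rw [Submodule.span_le]
      rintro _ ⟨e, rfl⟩
      rw [SetLike.mem_coe, Submodule.mem_span_singleton]
      by_cases he : Proper (R := R) e.1
      · obtain ⟨s, hs⟩ := cls_proportional hfull l e e0 he h0 fun j hj => absurd hj (by omega)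
        exact ⟨s, hs.symm⟩
      · exact ⟨0, by rw [zero_smul, respects_cls.degen e he]⟩
    exact Submodule.mem_span_singleton.1 (hle hx)
  · refine ⟨0, fun x => ⟨0, ?_⟩⟩
    have hx : x ∈ Submodule.span (ResidueField R) (Set.range (cls : Adm R M l → DetOfLen R M l)) := by
      rw [span_cls]; trivial
    have hle : Submodule.span (ResidueField R) (Set.range (cls : Adm R M l → DetOfLen R M l)) ≤ ⊥ := by
      rw [Submodule.span_le]
      rintro _ ⟨e, rfl⟩
      exact respects_cls.degen e fun he => h ⟨e, he⟩
    rw [zero_smul]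
    exact ((Submodule.mem_bot _).1 (hle hx)).symm

theorem hfull_of_isFiniteLength (hM : IsFiniteLength R M) :
    ∀ e : Adm R M (Module.length R M).toNat, Proper (R := R) e.1 →
      Submodule.span R (Set.range e.1) = ⊤ := by
  intro e he
  obtain ⟨_, _⟩ := isFiniteLength_iff_isNoetherian_isArtinian.1 hM
  exact span_eq_top_of_proper e.2 he (ENat.natCast_toNat Module.length_ne_top).symm

end Groth.Agent.L13.CycDet
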